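import Cfsg.Agent.Lib.AutPSp.Descent
import Cfsg.Agent.Lib.AutPSL.Split

/-!
Class splitting in `Inndiag(PSp_{2m}(q))`.
-/

set_option autoImplicit false

namespace Cfsg.Agent.Lib.AutPSp

open Matrix Cfsg.Agent.Lib.Symplectic

section General

variable {X : Type*} [Group X]

theorem map_conj_eq_self (H : Subgroup X) [hH : H.Normal] (a : X) :
    H.map (MulAut.conj a).toMonoidHom = H := by
  ext y
  rw [Subgroup.mem_map_equiv, MulAut.conj_symm_apply]
  exact ⟨fun h => by simpa [mul_assoc] using hH.conj_mem _ h a,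
    fun h => by simpa [mul_assoc] using hH.conj_mem _ h a⁻¹⟩

theorem map_conj_centralizer (x a : X) :
    (Subgroup.centralizer {x}).map (MulAut.conj a).toMonoidHom = Subgroup.centralizer {a * x * a⁻¹} := by
  ext y
  rw [Subgroup.mem_map_equiv, MulAut.conj_symm_apply, Subgroup.mem_centralizer_singleton_iff,
    Subgroup.mem_centralizer_singleton_iff]
  constructor
  · intro h
    calc y * (a * x * a⁻¹) = a * ((a⁻¹ * y * a) * x) * a⁻¹ := by group
      _ = a * (x * (a⁻¹ * y * a)) * a⁻¹ := by rw [h]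
      _ = a * x * a⁻¹ * y := by group
  · intro h
    calc a⁻¹ * y * a * x = a⁻¹ * (y * (a * x * a⁻¹)) * a := by group
      _ = a⁻¹ * (a * x * a⁻¹ * y) * a := by rw [h]
      _ = x * (a⁻¹ * y * a) := by group

theorem map_inf_centralizer (H : Subgroup X) [H.Normal] (x a : X) :
    (H ⊓ Subgroup.centralizer {x}).map (MulAut.conj a).toMonoidHom =
      H ⊓ Subgroup.centralizer {a * x * a⁻¹} := by
  rw [Subgroup.map_inf _ _ _ (MulAut.conj a).injective, map_conj_eq_self, map_conj_centralizer]

theorem centralizer_conj_equiv_of_normal (H : Subgroup X) [H.Normal] (x a : X) :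
    Nonempty (↥(H ⊓ Subgroup.centralizer {a * x * a⁻¹}) ≃* ↥(H ⊓ Subgroup.centralizer {x})) :=
  ⟨(MulEquiv.subgroupCongr (map_inf_centralizer H x a).symm).trans
    ((H ⊓ Subgroup.centralizer {x}).equivMapOfInjective _ (MulAut.conj a).injective).symm⟩

theorem splitClassCount_conj_of_normal {H K : Subgroup X} [H.Normal] [K.Normal] (hKH : K ≤ H) (x a : X) :
    Cfsg.splitClassCount H K (a * x * a⁻¹) = Cfsg.splitClassCount H K x := by
  rw [AutPSL.splitClassCount_eq hKH, AutPSL.splitClassCount_eq hKH, ← map_inf_centralizer,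
    ← Subgroup.relIndex_map_map_of_injective (H := K ⊔ H ⊓ Subgroup.centralizer {x}) (K := H)
      (f := (MulAut.conj a).toMonoidHom) (MulAut.conj a).injective,
    Subgroup.map_sup, map_conj_eq_self K, map_conj_eq_self H]

end General

variable {m : ℕ} {F : Type*} [Field F]

local notation "PSpm" => Cfsg.PSp m F

theorem inn_eq_map (hm : 0 < m) : Cfsg.Inn PSpm = (AutPSp.mult (F := F) hm).ker.map conjAut := by
  rw [← range_toGSp hm]
  ext β
  constructor
  · rintro ⟨y, rfl⟩
    obtain ⟨s, rfl⟩ := QuotientGroup.mk_surjective y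
    exact ⟨toGSp s, ⟨s, rfl⟩, conjAut_toGSp s⟩
  · rintro ⟨_, ⟨s, rfl⟩, rfl⟩
    exact ⟨QuotientGroup.mk s, (conjAut_toGSp s).symm⟩

/-- The conformal matrices fixing `x`. -/
def cent (x : MulAut PSpm) : Subgroup (Cfsg.GSp m F) := (Subgroup.centralizer {x}).comap conjAut

theorem mem_cent {x : MulAut PSpm} {g : Cfsg.GSp m F} : g ∈ cent x ↔ conjAut g * x = x * conjAut g :=
  Subgroup.mem_centralizer_singleton_iff

theorem inndiag_inf_centralizer (x : MulAut PSpm) :
    Cfsg.inndiagPSp m F ⊓ Subgroup.centralizer {x} = (cent x).map conjAut := by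
  rw [cent, Subgroup.map_comap_eq, inndiagPSp_eq_range]

theorem scalar_mem_cent (x : MulAut PSpm) (z : Fˣ) : scalarGSp z ∈ cent x := by
  rw [mem_cent, conjAut_scalarGSp, one_mul, mul_one]

theorem mult_scalarGSp (hm : 0 < m) (z : Fˣ) : AutPSp.mult hm (scalarGSp (m := m) z) = z ^ 2 :=
  mult_eq hm fun u v => by
    rw [coe_scalarGSp, Matrix.smul_mulVec, Matrix.smul_mulVec, Matrix.one_mulVec, Matrix.one_mulVec,
      map_smul, map_smul, LinearMap.smul_apply, Units.val_pow_eq_pow_val, pow_two]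
    simp [mul_assoc]

theorem splitClassCount_eq_index (hm : 2 ≤ m) (x : MulAut PSpm) :
    Cfsg.splitClassCount (Cfsg.inndiagPSp m F) (Cfsg.Inn PSpm) x =
      ((cent x).map (AutPSp.mult (F := F) (show 0 < m by omega))).index := by
  have hm0 : 0 < m := by omega
  have hker : (conjAut : Cfsg.GSp m F →* MulAut PSpm).ker ≤ cent x := fun g hg => by
    rw [mem_cent, MonoidHom.mem_ker.1 hg, one_mul, mul_one]
  have hsurj : Function.Surjective (AutPSp.mult (F := F) hm0) := fun c => ⟨torus c, mult_torus hm0 c⟩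
  rw [AutPSL.splitClassCount_eq inn_le_inndiagPSp, inndiag_inf_centralizer, inn_eq_map hm0, inndiagPSp_eq_range,
    ← Subgroup.map_sup, ← Subgroup.index_comap, Subgroup.comap_map_eq_self (hker.trans le_sup_right),
    ← Subgroup.index_comap_of_surjective _ hsurj, Subgroup.comap_map_eq, sup_comm]

end Cfsg.Agent.Lib.AutPSp
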