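import Cfsg.Prelude.Def_LieTypeDatum
import Cfsg.Agent.Lib.Symplectic.Std
import Cfsg.Agent.Lib.AutPSL.Descent

/-!
Standard automorphisms of `PSp_{2m}(F)` and symplectic transvections in `PSp_{2m}(F)`.
-/

set_option autoImplicit false

namespace Cfsg.Agent.Lib.AutPSp

open Matrix Cfsg.Agent.Lib.Symplectic

variable {m : ℕ} {F : Type*} [Field F]

local notation "Vm" => (Fin m ⊕ Fin m → F)
local notation "Mm" => Matrix (Fin m ⊕ Fin m) (Fin m ⊕ Fin m) F
local notation "GLm" => GL (Fin m ⊕ Fin m) F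
local notation "Spm" => Matrix.symplecticGroup (Fin m) F
local notation "PSpm" => Cfsg.PSp m F
local notation "sB" => stdForm m F

theorem mem_GSp_iff {g : GLm} :
    g ∈ Cfsg.GSp m F ↔ ∃ c : Fˣ, ∀ u v, sB ((g : Mm) *ᵥ u) ((g : Mm) *ᵥ v) = c * sB u v := by
  simp only [stdForm_eq_sympForm]; rfl

theorem stdForm_map (σ : F ≃+* F) (u v : Vm) : sB (⇑σ ∘ u) (⇑σ ∘ v) = σ (sB u v) := by
  simp [stdForm_apply, map_sum]

theorem sp_preserves (s : Spm) (u v : Vm) : sB ((s : Mm) *ᵥ u) ((s : Mm) *ᵥ v) = sB u v :=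
  mem_sp_iff.1 s.2 u v

theorem map_J (σ : F ≃+* F) : (Matrix.J (Fin m) F).map σ = Matrix.J (Fin m) F := by
  simp [Matrix.J, Matrix.fromBlocks_map, Matrix.map_one, Matrix.map_neg]

theorem map_mem_sp (σ : F ≃+* F) {A : Mm} (hA : A ∈ Spm) : A.map σ ∈ Spm := by
  rw [SymplecticGroup.mem_iff] at hA ⊢
  rw [← map_J σ, ← Matrix.transpose_map, ← Matrix.map_mul, ← Matrix.map_mul, hA]

theorem conj_mem_sp {g : GLm} (hg : g ∈ Cfsg.GSp m F) {A : Mm} (hA : A ∈ Spm) :
    (g : Mm) * A * ((g⁻¹ : GLm) : Mm) ∈ Spm := by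
  obtain ⟨c, hc⟩ := mem_GSp_iff.1 hg
  refine mem_sp_iff.2 fun u v => ?_
  simp only [← Matrix.mulVec_mulVec]
  rw [hc, mem_sp_iff.1 hA, ← hc, Matrix.mulVec_mulVec, Matrix.mulVec_mulVec, ← Units.val_mul,
    mul_inv_cancel, Units.val_one, Matrix.one_mulVec, Matrix.one_mulVec]

/-- Descend an automorphism of `Sp` to `PSp`. -/
def descend : MulAut Spm →* MulAut PSpm where
  toFun e := QuotientGroup.congr _ _ e (Subgroup.characteristic_iff_map_eq.1 inferInstance e)
  map_one' := by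
    ext x
    obtain ⟨s, rfl⟩ := QuotientGroup.mk_surjective x
    rfl
  map_mul' e e' := by
    ext x
    obtain ⟨s, rfl⟩ := QuotientGroup.mk_surjective x
    rfl

@[simp] theorem descend_mk (e : MulAut Spm) (s : Spm) :
    descend e (QuotientGroup.mk s : PSpm) = QuotientGroup.mk (e s) := rfl

/-- Conjugation of `Sp` by one conformal symplectic matrix. -/
def conjEquiv (g : Cfsg.GSp m F) : MulAut Spm where
  toFun s := ⟨(g.1 : Mm) * s * ((g.1⁻¹ : GLm) : Mm), conj_mem_sp g.2 s.2⟩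
  invFun s := ⟨((g.1⁻¹ : GLm) : Mm) * s * (g.1 : Mm), by
    have := conj_mem_sp (inv_mem g.2) s.2
    rwa [inv_inv] at this⟩
  left_inv s := Subtype.ext (by simp [Matrix.mul_assoc])
  right_inv s := Subtype.ext (by simp [Matrix.mul_assoc])
  map_mul' s t := Subtype.ext (by
    show (g.1 : Mm) * ((s : Mm) * t) * _ = (_ * _ * _) * (_ * _ * _)
    simp [Matrix.mul_assoc])

/-- Conjugation of `Sp` by conformal symplectic matrices. -/
def conjSp : Cfsg.GSp m F →* MulAut Spm where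
  toFun := conjEquiv
  map_one' := MulEquiv.ext fun s => Subtype.ext (by simp [conjEquiv])
  map_mul' g h := MulEquiv.ext fun s => Subtype.ext (by
    simp [conjEquiv, MulAut.mul_apply, Matrix.mul_assoc])

theorem coe_conjSp (g : Cfsg.GSp m F) (s : Spm) :
    ((conjSp g s : Spm) : Mm) = (g.1 : Mm) * s * ((g.1⁻¹ : GLm) : Mm) := rfl

/-- The automorphism of `PSp` induced by a conformal symplectic matrix. -/
def conjAut : Cfsg.GSp m F →* MulAut PSpm := descend.comp conjSp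

@[simp] theorem conjAut_mk (g : Cfsg.GSp m F) (s : Spm) :
    conjAut g (QuotientGroup.mk s : PSpm) = QuotientGroup.mk (conjSp g s) := rfl

/-- A field automorphism on `Sp`. -/
def fieldSp : (F ≃+* F) →* MulAut Spm where
  toFun σ :=
    { toFun := fun s => ⟨(s : Mm).map σ, map_mem_sp σ s.2⟩
      invFun := fun s => ⟨(s : Mm).map σ.symm, map_mem_sp σ.symm s.2⟩
      left_inv := fun s => Subtype.ext (Matrix.ext fun i j => by simp)
      right_inv := fun s => Subtype.ext (Matrix.ext fun i j => by simp)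
      map_mul' := fun s t => Subtype.ext (Matrix.map_mul (f := σ.toRingHom)) }
  map_one' := MulEquiv.ext fun s => Subtype.ext (Matrix.ext fun i j => rfl)
  map_mul' σ τ := MulEquiv.ext fun s => Subtype.ext (Matrix.ext fun i j => rfl)

theorem coe_fieldSp (σ : F ≃+* F) (s : Spm) : ((fieldSp σ s : Spm) : Mm) = (s : Mm).map σ := rfl

/-- The automorphism of `PSp` induced by a field automorphism. -/
def fieldAut : (F ≃+* F) →* MulAut PSpm := descend.comp fieldSp

@[simp] theorem fieldAut_mk (σ : F ≃+* F) (s : Spm) :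
    fieldAut σ (QuotientGroup.mk s : PSpm) = QuotientGroup.mk (fieldSp σ s) := rfl

/-- A field automorphism on `GSp`. -/
def mapGSp : (F ≃+* F) →* MulAut (Cfsg.GSp m F) where
  toFun σ :=
    { toFun := fun g => ⟨Units.mapEquiv σ.mapMatrix.toMulEquiv g.1, by
        obtain ⟨c, hc⟩ := mem_GSp_iff.1 g.2
        refine mem_GSp_iff.2 ⟨AutPSL.mapUnits σ c, fun u v => ?_⟩
        have key : ∀ w : Vm, (g.1 : Mm).map σ *ᵥ w = ⇑σ ∘ ((g.1 : Mm) *ᵥ (⇑σ.symm ∘ w)) := fun w =>
          funext fun i => by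
            refine Eq.trans ?_ (RingHom.map_mulVec σ.toRingHom (g.1 : Mm) (⇑σ.symm ∘ w) i).symm
            congr 1
            funext j
            simp
        have hσw : ∀ w : Vm, ⇑σ ∘ (⇑σ.symm ∘ w) = w := fun w => funext fun i => by simp
        show sB ((g.1 : Mm).map σ *ᵥ u) ((g.1 : Mm).map σ *ᵥ v) = _
        rw [key, key, stdForm_map, hc, map_mul, ← stdForm_map, hσw, hσw]
        rfl⟩
      invFun := fun g => ⟨Units.mapEquiv σ.symm.mapMatrix.toMulEquiv g.1, by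
        obtain ⟨c, hc⟩ := mem_GSp_iff.1 g.2
        refine mem_GSp_iff.2 ⟨AutPSL.mapUnits σ.symm c, fun u v => ?_⟩
        have key : ∀ w : Vm, (g.1 : Mm).map σ.symm *ᵥ w = ⇑σ.symm ∘ ((g.1 : Mm) *ᵥ (⇑σ ∘ w)) := fun w =>
          funext fun i => by
            refine Eq.trans ?_ (RingHom.map_mulVec σ.symm.toRingHom (g.1 : Mm) (⇑σ ∘ w) i).symm
            congr 1
            funext j
            simp
        have hσw : ∀ w : Vm, ⇑σ.symm ∘ (⇑σ ∘ w) = w := fun w => funext fun i => by simp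
        show sB ((g.1 : Mm).map σ.symm *ᵥ u) ((g.1 : Mm).map σ.symm *ᵥ v) = _
        rw [key, key, stdForm_map, hc, map_mul, ← stdForm_map, hσw, hσw]
        rfl⟩
      left_inv := fun g => Subtype.ext (Units.ext (Matrix.ext fun i j => σ.symm_apply_apply _))
      right_inv := fun g => Subtype.ext (Units.ext (Matrix.ext fun i j => σ.apply_symm_apply _))
      map_mul' := fun g h => Subtype.ext (map_mul (Units.mapEquiv σ.mapMatrix.toMulEquiv) g.1 h.1) }
  map_one' := MulEquiv.ext fun g => Subtype.ext (Units.ext (Matrix.ext fun i j => rfl))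
  map_mul' σ τ := MulEquiv.ext fun g => Subtype.ext (Units.ext (Matrix.ext fun i j => rfl))

theorem coe_mapGSp (σ : F ≃+* F) (g : Cfsg.GSp m F) :
    (((mapGSp σ g).1 : GLm) : Mm) = (g.1 : Mm).map σ := rfl

theorem fieldAut_conjAut (σ : F ≃+* F) (g : Cfsg.GSp m F) :
    (fieldAut σ : MulAut PSpm) * conjAut g = conjAut (mapGSp σ g) * fieldAut σ := by
  have h : (fieldSp σ : MulAut Spm) * conjSp g = conjSp (mapGSp σ g) * fieldSp σ := by
    refine MulEquiv.ext fun s => Subtype.ext ?_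
    simp only [MulAut.mul_apply, coe_fieldSp, coe_conjSp, coe_mapGSp, Matrix.map_mul]
    rfl
  rw [fieldAut, conjAut, MonoidHom.comp_apply, MonoidHom.comp_apply, MonoidHom.comp_apply, ← map_mul, h,
    map_mul]

/-! ### Bridge to the predicates of the Prelude -/

theorem isInducedBySemilinearPSp_iff (g : Cfsg.GSp m F) (σ : F ≃+* F) (β : MulAut PSpm) :
    Cfsg.IsInducedBySemilinearPSp g.1 σ β ↔ β = conjAut g * fieldAut σ := by
  constructor
  · intro h
    refine MulEquiv.ext fun x => ?_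
    obtain ⟨s, rfl⟩ := QuotientGroup.mk_surjective x
    rw [MulAut.mul_apply, fieldAut_mk, conjAut_mk]
    exact h s _ (by rw [coe_conjSp, coe_fieldSp])
  · rintro rfl s s' h
    rw [MulAut.mul_apply, fieldAut_mk, conjAut_mk,
      show conjSp g (fieldSp σ s) = s' from
        Subtype.ext ((by rw [coe_conjSp, coe_fieldSp] : _ = _).trans h.symm)]

theorem isInnerDiagonalAutPSp_iff (β : MulAut PSpm) :
    Cfsg.IsInnerDiagonalAutPSp β ↔ ∃ g : Cfsg.GSp m F, β = conjAut g := by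
  constructor
  · rintro ⟨g, hg, h⟩
    refine ⟨⟨g, hg⟩, ?_⟩
    rw [(isInducedBySemilinearPSp_iff ⟨g, hg⟩ (RingEquiv.refl F) β).1 h,
      show fieldAut (RingEquiv.refl F) = (1 : MulAut PSpm) from map_one fieldAut, mul_one]
  · rintro ⟨g, rfl⟩
    exact ⟨g.1, g.2, (isInducedBySemilinearPSp_iff g (RingEquiv.refl F) _).2
      (by rw [show fieldAut (RingEquiv.refl F) = (1 : MulAut PSpm) from map_one fieldAut, mul_one])⟩

theorem isStdFieldAutPSp_iff (σ : F ≃+* F) (β : MulAut PSpm) :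
    Cfsg.IsStdFieldAutPSp σ β ↔ β = fieldAut σ := by
  constructor
  · intro h
    refine MulEquiv.ext fun x => ?_
    obtain ⟨s, rfl⟩ := QuotientGroup.mk_surjective x
    rw [fieldAut_mk]
    exact h s _ (coe_fieldSp σ s)
  · rintro rfl s s' h
    rw [fieldAut_mk, show fieldSp σ s = s' from Subtype.ext ((coe_fieldSp σ s).trans h.symm)]

theorem inndiagPSp_eq_range : Cfsg.inndiagPSp m F = (conjAut : Cfsg.GSp m F →* MulAut PSpm).range := by
  have h : {β : MulAut PSpm | Cfsg.IsInnerDiagonalAutPSp β} =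
      ((conjAut : Cfsg.GSp m F →* MulAut PSpm).range : Set (MulAut PSpm)) := by
    ext β
    exact (isInnerDiagonalAutPSp_iff β).trans ⟨fun ⟨g, h⟩ => ⟨g, h.symm⟩, fun ⟨g, h⟩ => ⟨g, h.symm⟩⟩
  show Subgroup.closure {β : MulAut PSpm | Cfsg.IsInnerDiagonalAutPSp β} = _
  rw [h, Subgroup.closure_eq]

theorem conjAut_mem_inndiag (g : Cfsg.GSp m F) : conjAut g ∈ Cfsg.inndiagPSp m F := by
  rw [inndiagPSp_eq_range]; exact ⟨g, rfl⟩

/-- A symplectic matrix as a conformal one. -/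
def toGSp : Spm →* Cfsg.GSp m F where
  toFun s := ⟨⟨(s : Mm), ((s⁻¹ : Spm) : Mm), by rw [← Submonoid.coe_mul, mul_inv_cancel, Submonoid.coe_one],
      by rw [← Submonoid.coe_mul, inv_mul_cancel, Submonoid.coe_one]⟩,
    mem_GSp_iff.2 ⟨1, fun u v => by rw [Units.val_one, one_mul]; exact sp_preserves s u v⟩⟩
  map_one' := Subtype.ext (Units.ext rfl)
  map_mul' s t := Subtype.ext (Units.ext rfl)

theorem conjAut_toGSp (s : Spm) : conjAut (toGSp s) = MulAut.conj (QuotientGroup.mk s : PSpm) := by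
  ext x
  obtain ⟨t, rfl⟩ := QuotientGroup.mk_surjective x
  rw [conjAut_mk, show conjSp (toGSp s) t = s * t * s⁻¹ from Subtype.ext rfl]
  rfl

/-! ### Transvections -/

theorem mk_eq_mk_iff (s t : Spm) :
    (QuotientGroup.mk s : PSpm) = QuotientGroup.mk t ↔ (t : Mm) = s ∨ (t : Mm) = -(s : Mm) := by
  rw [QuotientGroup.eq, mem_center_sp_iff]
  have hts : (t : Mm) = (s : Mm) * ((s⁻¹ * t : Spm) : Mm) := by
    rw [← Submonoid.coe_mul, mul_inv_cancel_left]
  have hid : ((s⁻¹ : Spm) : Mm) * (s : Mm) = 1 := by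
    rw [← Submonoid.coe_mul, inv_mul_cancel, Submonoid.coe_one]
  constructor
  · rintro (h | h)
    · left; rw [hts, h, Matrix.mul_one]
    · right; rw [hts, h, Matrix.mul_neg, Matrix.mul_one]
  · rintro (h | h)
    · left; rw [Submonoid.coe_mul, h, hid]
    · right; rw [Submonoid.coe_mul, h, Matrix.mul_neg, hid]

/-- A symplectic transvection, as an element of `Sp`. -/
def tvS (v : Vm) (c : F) : Spm := ⟨Cfsg.sympTransvection m v c, sympTransvection_mem v c⟩

/-- A symplectic transvection, as an element of `PSp`. -/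
def tr (v : Vm) (c : F) : PSpm := QuotientGroup.mk (tvS v c)

theorem tvS_mulVec (v : Vm) (c : F) (x : Vm) : (tvS v c : Mm) *ᵥ x = x + (c * sB x v) • v := by
  show Cfsg.sympTransvection m v c *ᵥ x = _
  rw [← spEquiv_symm_transv, spEquiv_symm_mulVec, transv_smul]

theorem sp_ext {s t : Spm} (h : ∀ x : Vm, (s : Mm) *ᵥ x = (t : Mm) *ᵥ x) : s = t :=
  Subtype.ext (Matrix.mulVec_injective (funext h))

theorem tvS_smul (v : Vm) (a c : F) : tvS (a • v) c = tvS v (a ^ 2 * c) :=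
  sp_ext fun x => by
    simp only [tvS_mulVec, map_smul, smul_eq_mul, smul_smul]
    congr 2
    ring

theorem tr_smul (v : Vm) (a c : F) : tr (a • v) c = tr v (a ^ 2 * c) := congrArg _ (tvS_smul v a c)

theorem conjAut_tr (g : Cfsg.GSp m F) (v : Vm) (c : F) {μ : Fˣ}
    (hμ : ∀ u w, sB ((g.1 : Mm) *ᵥ u) ((g.1 : Mm) *ᵥ w) = μ * sB u w) :
    conjAut g (tr v c) = tr ((g.1 : Mm) *ᵥ v) (c / μ) := by
  rw [tr, conjAut_mk, tr]
  congr 1
  refine sp_ext fun x => ?_
  have h : sB x ((g.1 : Mm) *ᵥ v) = μ * sB (((g.1⁻¹ : GLm) : Mm) *ᵥ x) v := by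
    rw [← hμ, Matrix.mulVec_mulVec, ← Units.val_mul, mul_inv_cancel, Units.val_one, Matrix.one_mulVec]
  rw [coe_conjSp, ← Matrix.mulVec_mulVec, ← Matrix.mulVec_mulVec, tvS_mulVec, tvS_mulVec,
    Matrix.mulVec_add, Matrix.mulVec_mulVec, ← Units.val_mul, mul_inv_cancel, Units.val_one,
    Matrix.one_mulVec, Matrix.mulVec_smul, h, ← mul_assoc, div_mul_cancel₀ c μ.ne_zero]

theorem fieldAut_tr (σ : F ≃+* F) (v : Vm) (c : F) :
    (fieldAut σ : MulAut PSpm) (tr v c) = tr (⇑σ ∘ v) (σ c) := by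
  rw [tr, fieldAut_mk, tr]
  congr 1
  refine sp_ext fun x => ?_
  have hx : x = ⇑σ ∘ (⇑σ.symm ∘ x) := funext fun i => by simp
  rw [coe_fieldSp, tvS_mulVec]
  conv_lhs => rw [hx]
  rw [show (tvS v c : Mm).map σ *ᵥ (⇑σ ∘ (⇑σ.symm ∘ x)) = ⇑σ ∘ ((tvS v c : Mm) *ᵥ (⇑σ.symm ∘ x)) from
    funext fun i => (RingHom.map_mulVec σ.toRingHom (tvS v c : Mm) (⇑σ.symm ∘ x) i).symm, tvS_mulVec]
  have h2 : sB x (⇑σ ∘ v) = σ (sB (⇑σ.symm ∘ x) v) := by rw [← stdForm_map, ← hx]
  funext i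
  simp [h2]

theorem conj_tr (s : Spm) (v : Vm) (c : F) :
    (QuotientGroup.mk s : PSpm) * tr v c * (QuotientGroup.mk s)⁻¹ = tr ((s : Mm) *ᵥ v) c := by
  rw [← MulAut.conj_apply, ← conjAut_toGSp,
    conjAut_tr (toGSp s) v c (μ := 1) (fun u w => by rw [Units.val_one, one_mul]; exact sp_preserves s u w),
    Units.val_one, div_one]
  rfl

end Cfsg.Agent.Lib.AutPSp
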