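import Cfsg.Agent.Lib.AutPSp.Main

/-!
Galois descent in `GSp_{2m}` and the standard field classes of `Aut(PSp_{2m}(q))`.
-/

set_option autoImplicit false

namespace Cfsg.Agent.Lib.AutPSp

open Matrix Cfsg.Agent.Lib.Symplectic Cfsg.Agent.Lib.AutPSL

variable {m : ℕ} {F : Type*} [Field F]

local notation "ℓ" => (Fin m ⊕ Fin m)
local notation "Vm" => (Fin m ⊕ Fin m → F)
local notation "Mm" => Matrix (Fin m ⊕ Fin m) (Fin m ⊕ Fin m) F
local notation "GLm" => GL (Fin m ⊕ Fin m) F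
local notation "Spm" => Matrix.symplecticGroup (Fin m) F
local notation "PSpm" => Cfsg.PSp m F
local notation "sB" => stdForm m F

theorem gram_iff {g : Mm} {c : F} :
    (∀ u v : Vm, sB (g *ᵥ u) (g *ᵥ v) = c * sB u v) ↔ gᵀ * J (Fin m) F * g = c • J (Fin m) F := by
  constructor
  · intro h
    refine Matrix.ext fun i j => ?_
    have h1 := h (Pi.single i 1) (Pi.single j 1)
    rw [mulVec_form, stdForm_eq_dot] at h1
    simpa [Matrix.mulVec_single_one, single_one_dotProduct] using h1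
  · intro h u v
    rw [mulVec_form, h, stdForm_eq_dot, Matrix.smul_mulVec, dotProduct_smul, smul_eq_mul]

theorem mult_mapGSp (hm : 0 < m) (σ : F ≃+* F) (g : Cfsg.GSp m F) :
    AutPSp.mult hm (mapGSp σ g) = mapUnits σ (AutPSp.mult hm g) := by
  refine mult_eq hm (gram_iff.2 ?_)
  have h := congrArg (fun A : Mm => A.map σ) ((gram_iff (g := (g.1 : Mm))).1 (mult_spec hm g))
  simp only [Matrix.map_mul, Matrix.transpose_map, map_J] at h
  rw [coe_mapGSp]
  refine h.trans ?_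
  ext i j
  have hJ : σ (J (Fin m) F i j) = J (Fin m) F i j := congrFun (congrFun (map_J σ) i) j
  simp [hJ]

/-- **Descent in `GSp`**. -/
theorem exists_descent_GSp [Finite F] (hm : 0 < m) {σ : F ≃+* F} {r : ℕ} (hr : orderOf σ = r) (hr0 : 0 < r)
    {g : Cfsg.GSp m F} (hN : tnorm (mapGSp σ) g r = 1) : ∃ h : Cfsg.GSp m F, g = h * (mapGSp σ h)⁻¹ := by
  classical
  have hN' : tnorm (mapGL σ) g.1 r = 1 := by
    have := map_tnorm (mapGSp σ) (mapGL σ) (Cfsg.GSp m F).subtype (fun x => rfl) g r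
    rw [hN, map_one] at this
    exact this.symm
  obtain ⟨h, hh⟩ := exists_descent hr hr0 hN'
  set μ := AutPSp.mult hm g
  have hμN : tnorm (mapUnits σ) μ r = 1 := by
    have := map_tnorm (mapGSp σ) (mapUnits σ) (AutPSp.mult hm) (mult_mapGSp hm σ) g r
    rw [hN, map_one] at this
    exact this.symm
  obtain ⟨w, hw⟩ := exists_div_of_tnorm_eq_one hr hr0 hμN
  have hgh : (g.1 : Mm) * (h : Mm).map σ = (h : Mm) := by
    have : g.1 * mapGL σ h = h := by rw [hh, inv_mul_cancel_right]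
    exact congrArg Units.val this
  set H : Mm := (h : Mm)ᵀ * J (Fin m) F * (h : Mm) with hH
  have hσH : H = (μ : F) • H.map σ := by
    have hg := (gram_iff (g := (g.1 : Mm))).1 (mult_spec hm g)
    have h1 : H.map σ = ((h : Mm).map σ)ᵀ * J (Fin m) F * (h : Mm).map σ := by
      rw [hH, Matrix.map_mul, Matrix.map_mul, Matrix.transpose_map, map_J]
    rw [h1]
    calc H = ((g.1 : Mm) * (h : Mm).map σ)ᵀ * J (Fin m) F * ((g.1 : Mm) * (h : Mm).map σ) := by rw [hgh]
      _ = ((h : Mm).map σ)ᵀ * ((g.1 : Mm)ᵀ * J (Fin m) F * (g.1 : Mm)) * (h : Mm).map σ := by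
          rw [Matrix.transpose_mul]; simp only [Matrix.mul_assoc]
      _ = _ := by rw [hg, Matrix.mul_smul, Matrix.smul_mul]
  set H' : Mm := ((w⁻¹ : Fˣ) : F) • H with hH'
  have hfix : ∀ i j, σ (H' i j) = H' i j := by
    intro i j
    have h1 : H i j = (μ : F) * σ (H i j) := congrFun (congrFun hσH i) j
    show σ (((w⁻¹ : Fˣ) : F) * H i j) = ((w⁻¹ : Fˣ) : F) * H i j
    conv_rhs => rw [h1]
    rw [map_mul, ← mul_assoc, ← Units.val_mul, hw, inv_mul_cancel_left, ← map_inv]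
    rfl
  let K := fixField σ
  let H₀ : Matrix ℓ ℓ K := Matrix.of fun i j => ⟨H' i j, hfix i j⟩
  have hH₀ : H₀.map K.subtype = H' := Matrix.ext fun i j => rfl
  let B₀ : (ℓ → K) →ₗ[K] (ℓ → K) →ₗ[K] K := Matrix.toBilin' H₀
  have hB₀ : ∀ x y, B₀ x y = x ⬝ᵥ (H₀ *ᵥ y) := fun x y => Matrix.toBilin'_apply' H₀ x y
  have hB₀F : ∀ x y, K.subtype (B₀ x y) =
      ((w⁻¹ : Fˣ) : F) * sB ((h : Mm) *ᵥ (⇑K.subtype ∘ x)) ((h : Mm) *ᵥ (⇑K.subtype ∘ y)) := by
    intro x y
    rw [hB₀, RingHom.map_dotProduct, show ⇑K.subtype ∘ (H₀ *ᵥ y) = H' *ᵥ (⇑K.subtype ∘ y) from by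
      rw [← hH₀]; exact funext fun i => RingHom.map_mulVec K.subtype H₀ y i]
    rw [mulVec_form, hH', Matrix.smul_mulVec, dotProduct_smul, smul_eq_mul]
  have hsymp : IsSympForm B₀ := by
    refine ⟨fun x => K.subtype.injective ?_, fun x hx => ?_⟩
    · rw [hB₀F, (isSympForm_stdForm m F).self, mul_zero, map_zero]
    · have hdet : H₀.det ≠ 0 := by
        intro hd
        have h1 := K.subtype.map_det H₀
        rw [RingHom.mapMatrix_apply, hH₀, hd, map_zero, hH', Matrix.det_smul, hH, Matrix.det_mul, Matrix.det_mul,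
          Matrix.det_transpose] at h1
        have hh0 := ((Matrix.isUnit_iff_isUnit_det _).1 h.isUnit).ne_zero
        have hJ0 : (J (Fin m) F).det ≠ 0 := (Matrix.isUnit_det_J (Fin m) F).ne_zero
        exact mul_ne_zero (pow_ne_zero _ (Units.ne_zero _)) (mul_ne_zero (mul_ne_zero hh0 hJ0) hh0) h1.symm
      have hxH : x ᵥ* H₀ = 0 := funext fun j => by
        have := hx (Pi.single j 1)
        rw [hB₀, Matrix.dotProduct_mulVec] at this
        simpa using this
      exact Matrix.eq_zero_of_vecMul_eq_zero hdet hxH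
  obtain ⟨m', hm', e, he⟩ := exists_std hsymp
  have hmm : m' = m := by
    rw [Module.finrank_pi, Fintype.card_sum, Fintype.card_fin] at hm'; omega
  revert e he
  rw [hmm]
  intro e he
  let k₀ : Matrix ℓ ℓ K := LinearMap.toMatrix' e.toLinearMap
  set kF : Mm := k₀.map K.subtype with hkF
  have hek : ∀ x, k₀ *ᵥ x = e x := fun x => LinearMap.toMatrix'_mulVec _ x
  have hk : kFᵀ * H' * kF = J (Fin m) F := by
    have h0 : k₀ᵀ * H₀ * k₀ = J (Fin m) K := by
      refine Matrix.ext fun i j => ?_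
      have h1 := he (Pi.single i 1) (Pi.single j 1)
      rw [hB₀, stdForm_eq_dot, ← hek, ← hek, ← Matrix.vecMul_transpose, ← Matrix.dotProduct_mulVec,
        Matrix.mulVec_mulVec, Matrix.mulVec_mulVec] at h1
      simpa [Matrix.mulVec_single_one, single_one_dotProduct] using h1
    have hJK : (J (Fin m) K).map K.subtype = J (Fin m) F := by
      simp [Matrix.J, Matrix.fromBlocks_map, Matrix.map_one, Matrix.map_neg]
    rw [hkF, ← hH₀, ← Matrix.transpose_map, ← Matrix.map_mul, ← Matrix.map_mul, h0, hJK]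
  have hku : IsUnit kF := by
    refine (Matrix.isUnit_iff_isUnit_det _).2 (isUnit_iff_ne_zero.2 fun hd => ?_)
    have := congrArg Matrix.det hk
    rw [Matrix.det_mul, hd, mul_zero] at this
    exact (Matrix.isUnit_det_J (Fin m) F).ne_zero this.symm
  have hkσ : kF.map σ = kF := Matrix.ext fun i j => (k₀ i j).2
  have hmem : h * hku.unit ∈ Cfsg.GSp m F := by
    refine mem_GSp_iff.2 ⟨w, gram_iff.2 ?_⟩
    have hH2 : H = (w : F) • H' := by rw [hH', smul_smul, ← Units.val_mul, mul_inv_cancel, Units.val_one, one_smul]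
    rw [Units.val_mul]
    calc ((h : Mm) * kF)ᵀ * J (Fin m) F * ((h : Mm) * kF) = kFᵀ * H * kF := by
          rw [hH, Matrix.transpose_mul]; simp only [Matrix.mul_assoc]
      _ = _ := by rw [hH2, Matrix.mul_smul, Matrix.smul_mul, hk]
  refine ⟨⟨_, hmem⟩, eq_mul_inv_of_mul_eq (Subtype.ext (Units.ext ?_))⟩
  show (g.1 : Mm) * ((h : Mm) * kF).map σ = (h : Mm) * kF
  rw [Matrix.map_mul, hkσ, ← Matrix.mul_assoc, hgh]

theorem mapGSp_scalar (σ : F ≃+* F) (z : Fˣ) :
    mapGSp (m := m) σ (scalarGSp z) = scalarGSp (mapUnits σ z) :=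
  Subtype.ext (GeneralLinearGroup.map_scalar σ.toRingHom z)

theorem scalarGSp_commute (z : Fˣ) (g : Cfsg.GSp m F) : Commute (scalarGSp z) g :=
  Subtype.ext (GeneralLinearGroup.scalar_commute z g.1)

theorem scalarGSp_injective (hm : 0 < m) : Function.Injective (scalarGSp : Fˣ →* Cfsg.GSp m F) := fun a b h => by
  have h1 := (coe_scalarGSp (m := m) a).symm.trans ((congrArg (fun g : Cfsg.GSp m F => (g.1 : Mm)) h).trans (coe_scalarGSp b))
  have := congrFun (congrFun h1 (Sum.inl ⟨0, hm⟩)) (Sum.inl ⟨0, hm⟩)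
  exact Units.ext (by simpa using this)

theorem exists_scalar_of_conjAut_eq_one (hm : 2 ≤ m) {g : Cfsg.GSp m F}
    (h : (AutPSp.conjAut g : MulAut PSpm) = 1) : ∃ c : Fˣ, g = scalarGSp c := by
  obtain ⟨c, hc⟩ := (conjAut_eq_one_iff hm).1 h
  exact ⟨c, Subtype.ext (Units.ext (hc.trans (coe_scalarGSp c).symm))⟩

theorem conjAut_scalarGSp (c : Fˣ) : (AutPSp.conjAut (scalarGSp c) : MulAut PSpm) = 1 :=
  conjAut_eq_one_of_scalar (coe_scalarGSp c)

theorem conjAut_mul_fieldAut_pow (g : Cfsg.GSp m F) (σ : F ≃+* F) : ∀ k : ℕ,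
    (AutPSp.conjAut g * AutPSp.fieldAut σ : MulAut PSpm) ^ k =
      AutPSp.conjAut (tnorm (mapGSp σ) g k) * AutPSp.fieldAut (σ ^ k)
  | 0 => by simp
  | k + 1 => by
    rw [pow_succ', conjAut_mul_fieldAut_pow g σ k, tnorm_succ, map_mul, pow_succ', map_mul AutPSp.fieldAut,
      ← mul_assoc, mul_assoc (AutPSp.conjAut g) (AutPSp.fieldAut σ), AutPSp.fieldAut_conjAut]
    simp only [mul_assoc]

/-- An element of order dividing `r` in the coset of a field automorphism of order `r` is conjugate to it. -/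
theorem exists_conj_of_pow_eq_one [Finite F] (hm : 2 ≤ m) {σ : F ≃+* F} {r : ℕ} (hr : orderOf σ = r)
    (hr0 : 0 < r) {g : Cfsg.GSp m F} (hg : (AutPSp.conjAut g * AutPSp.fieldAut σ : MulAut PSpm) ^ r = 1) :
    ∃ h : Cfsg.GSp m F, (AutPSp.conjAut g * AutPSp.fieldAut σ : MulAut PSpm) =
      AutPSp.conjAut h * AutPSp.fieldAut σ * (AutPSp.conjAut h)⁻¹ := by
  have hσr : σ ^ r = 1 := by rw [← hr]; exact pow_orderOf_eq_one σ
  rw [conjAut_mul_fieldAut_pow, hσr, map_one, mul_one] at hg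
  obtain ⟨c, hc⟩ := exists_scalar_of_conjAut_eq_one hm hg
  have hσc : mapUnits σ c = c := by
    have h := apply_tnorm_of_pow_eq_one (mapGSp σ) g (r := r) (by rw [← map_pow, hσr, map_one])
    rw [hc, mapGSp_scalar, (scalarGSp_commute c g).eq] at h
    exact scalarGSp_injective (by omega) (mul_left_cancel h)
  obtain ⟨z, hz⟩ := exists_tnorm_eq hr hr0 hσc
  have hmap : ∀ x, scalarGSp (mapUnits σ x) = mapGSp (m := m) σ (scalarGSp x) := fun x => (mapGSp_scalar σ x).symm
  have hN : tnorm (mapGSp σ) (scalarGSp z⁻¹ * g) r = 1 := by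
    rw [tnorm_mul, hc, ← map_tnorm (mapUnits σ) (mapGSp σ) scalarGSp hmap, ← map_mul]
    · rw [← hz, ← tnorm_units_mul, inv_mul_cancel, ← AutPSL.normHom_apply, map_one, map_one]
    · intro i _ x
      rw [← map_tnorm (mapUnits σ) (mapGSp σ) scalarGSp hmap, mapGSp_scalar]
      exact scalarGSp_commute _ x
  obtain ⟨h, hh⟩ := exists_descent_GSp (by omega) hr hr0 hN
  refine ⟨h, ?_⟩
  have h1 : (AutPSp.conjAut g : MulAut PSpm) = AutPSp.conjAut (h * (mapGSp σ h)⁻¹) := by
    rw [← hh, map_mul, conjAut_scalarGSp, one_mul]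
  rw [h1, map_mul, mul_assoc, mul_assoc, ← map_inv AutPSp.conjAut h, AutPSp.fieldAut_conjAut, map_inv (mapGSp σ)]

theorem inn_le_inndiagPSp : Cfsg.Inn PSpm ≤ Cfsg.inndiagPSp m F := by
  rintro _ ⟨y, rfl⟩
  obtain ⟨s, rfl⟩ := QuotientGroup.mk_surjective y
  rw [← conjAut_toGSp]
  exact conjAut_mem_inndiag _

/-- In characteristic two the inner-diagonal group is the inner group. -/
theorem inndiagPSp_eq_inn [Finite F] [CharP F 2] (hm : 0 < m) :
    Cfsg.inndiagPSp m F = Cfsg.Inn PSpm := by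
  refine le_antisymm ?_ inn_le_inndiagPSp
  rw [inndiagPSp_eq_range]
  rintro _ ⟨g, rfl⟩
  obtain ⟨t, ht⟩ := FiniteField.isSquare_of_char_two (ringChar.eq F 2) ((AutPSp.mult hm g : Fˣ) : F)
  have ht0 : t ≠ 0 := fun h => (AutPSp.mult hm g).ne_zero (by rw [ht, h, mul_zero])
  have hsq : AutPSp.mult hm (scalarGSp (Units.mk0 t ht0)) = AutPSp.mult hm g :=
    mult_eq hm fun u v => by
      rw [coe_scalarGSp, Matrix.smul_mulVec, Matrix.smul_mulVec, Matrix.one_mulVec, Matrix.one_mulVec,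
        map_smul, map_smul, LinearMap.smul_apply, ht]
      simp [mul_assoc]
  have hmem : (scalarGSp (Units.mk0 t ht0))⁻¹ * g ∈ (toGSp : Spm →* Cfsg.GSp m F).range := by
    rw [range_toGSp hm, MonoidHom.mem_ker, map_mul, map_inv, hsq, inv_mul_cancel]
  obtain ⟨s, hs⟩ := hmem
  refine ⟨QuotientGroup.mk s, ?_⟩
  rw [← conjAut_toGSp, hs, map_mul, map_inv, conjAut_scalarGSp, inv_one, one_mul]

/-- `Inndiag(PSp_{2m}(q))` is normal in the automorphism group, with no exception. -/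
theorem inndiagPSp_normal' [Finite F] (hm : 2 ≤ m) : (Cfsg.inndiagPSp m F).Normal := by
  obtain ⟨p, hp⟩ := CharP.exists F
  haveI : Fact p.Prime := ⟨CharP.char_is_prime F p⟩
  by_cases h2 : p = 2
  · subst h2
    rw [inndiagPSp_eq_inn (by omega)]
    exact Cfsg.innNormal _
  · exact inndiagPSp_normal hm p fun _ => h2

end Cfsg.Agent.Lib.AutPSp
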