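import Cfsg.Agent.Lib.AutPSp.Split
import Cfsg.Agent.Lib.AutPSL.LocalCore

/-!
The centraliser of a field automorphism of `PSp_{2m}(q)`: the subgroup `PSp_{2m}(q₀)`.
-/

set_option autoImplicit false

namespace Cfsg.Agent.Lib.AutPSp

open Matrix Cfsg.Agent.Lib.Symplectic Cfsg.Agent.Lib.AutPSL MulAction
open scoped LinearAlgebra.Projectivization

variable {m : ℕ} {F : Type*} [Field F]

local notation "ℓ" => (Fin m ⊕ Fin m)
local notation "Vm" => (Fin m ⊕ Fin m → F)
local notation "Mm" => Matrix (Fin m ⊕ Fin m) (Fin m ⊕ Fin m) F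
local notation "GLm" => GL (Fin m ⊕ Fin m) F
local notation "Spm" => Matrix.symplecticGroup (Fin m) F
local notation "PSpm" => Cfsg.PSp m F

/-- A normal subgroup of `Sp_{2m}(F)` is central or contains the commutator subgroup. -/
theorem normal_sp_cases (M : Subgroup Spm) [hM : M.Normal] :
    M ≤ Subgroup.center Spm ∨ commutator Spm ≤ M := by
  have hB := isSympForm_stdForm m F
  haveI := isPreprimitive_proj hB
  let e := spEquiv m F
  haveI : (M.map e.toMonoidHom).Normal := hM.map _ e.surjective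
  by_cases hfix : fixedPoints (M.map e.toMonoidHom) (ℙ F (Fin m ⊕ Fin m → F)) = Set.univ
  · left
    intro g hg
    have h1 : e g ∈ Subgroup.center (Isom (stdForm m F)) :=
      mem_center_of_forall_smul hB fun q =>
        (Set.eq_univ_iff_forall.mp hfix q) ⟨e g, ⟨g, hg, rfl⟩⟩
    rw [← map_center_eq e, Subgroup.mem_map_equiv, MulEquiv.symm_apply_apply] at h1
    exact h1
  · right
    have h := (iwasawa hB).commutator_le (M.map e.toMonoidHom) hfix
    intro g hg
    have h1 : e g ∈ commutator (Isom (stdForm m F)) := by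
      have h2 := Subgroup.mem_map_of_mem e.toMonoidHom hg
      rw [commutator_def, Subgroup.map_commutator, Subgroup.map_top_of_surjective _ e.surjective,
        ← commutator_def] at h2
      exact h2
    have h3 := h h1
    rwa [Subgroup.mem_map_equiv, MulEquiv.symm_apply_apply] at h3

theorem tvS_mul (v : Vm) (c d : F) : tvS v c * tvS v d = tvS v (c + d) := by
  have h : ∀ c, tvS v c = (spEquiv m F).symm (transv (isSympForm_stdForm m F) v c) := fun c =>
    Subtype.ext (spEquiv_symm_transv v c).symm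
  rw [h, h, h, ← map_mul, transv_mul]

/-- The quotient of `Sp_{2m}(F)` by a noncentral normal subgroup is an `r`-group. -/
theorem isPGroup_sp_quotient (r : ℕ) [CharP F r] (M : Subgroup Spm) [M.Normal]
    (h : commutator Spm ≤ M) : IsPGroup r (Spm ⧸ M) := by
  let φ : Spm →* Abelianization Spm := (powMonoidHom r).comp Abelianization.of
  have hφ : φ = 1 := by
    refine MonoidHom.eq_of_eqOn_dense closure_sympTransvection_eq_top fun A hA => ?_
    obtain ⟨w, c, hA⟩ := hA
    rw [show A = tvS w c from Subtype.ext hA]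
    have hpow : ∀ k : ℕ, tvS w c ^ k = tvS w (k * c) := by
      intro k
      induction k with
      | zero =>
        refine sp_ext fun x => ?_
        simp [tvS_mulVec]
      | succ k ih => rw [pow_succ, ih, tvS_mul]; congr 1; push_cast; ring
    show Abelianization.of (tvS w c) ^ r = 1
    rw [← map_pow, hpow, CharP.cast_eq_zero F r, zero_mul,
      show tvS w (0 : F) = 1 from sp_ext fun x => by simp [tvS_mulVec], map_one]
  intro x
  obtain ⟨g, rfl⟩ := QuotientGroup.mk_surjective x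
  refine ⟨1, ?_⟩
  rw [pow_one, ← QuotientGroup.mk_pow, QuotientGroup.eq_one_iff]
  refine h ?_
  rw [← Abelianization.ker_of, MonoidHom.mem_ker, map_pow]
  exact DFunLike.congr_fun hφ g

variable (σ : F ≃+* F)

theorem map_J_subtype :
    (J (Fin m) (fixField σ)).map (fixField σ).subtype = J (Fin m) F := by
  simp [Matrix.J, Matrix.fromBlocks_map, Matrix.map_one, Matrix.map_neg]

theorem incGSp_mem (hm : 0 < m) (h : Cfsg.GSp m (fixField σ)) :
    GeneralLinearGroup.map (fixField σ).subtype h.1 ∈ Cfsg.GSp m F := by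
  refine mem_GSp_iff.2 ⟨Units.map (fixField σ).subtype.toMonoidHom (AutPSp.mult hm h), gram_iff.2 ?_⟩
  have h1 := congrArg (fun A => A.map (fixField σ).subtype) ((gram_iff).1 (mult_spec hm h))
  simp only [Matrix.map_mul, Matrix.transpose_map, map_J_subtype] at h1
  show ((h.1 : Matrix ℓ ℓ (fixField σ)).map (fixField σ).subtype)ᵀ * _ *
    (h.1 : Matrix ℓ ℓ (fixField σ)).map (fixField σ).subtype = _
  rw [h1]
  ext i j
  have hJ' : (fixField σ).subtype (J (Fin m) (fixField σ) i j) = J (Fin m) F i j :=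
    congrFun (congrFun (map_J_subtype σ) i) j
  simp [← hJ']

/-- `GSp_{2m}(q₀) → GSp_{2m}(q)`. -/
def incGSp (hm : 0 < m) : Cfsg.GSp m (fixField σ) →* Cfsg.GSp m F :=
  ((GeneralLinearGroup.map (fixField σ).subtype).comp (Cfsg.GSp m (fixField σ)).subtype).codRestrict _
    (incGSp_mem σ hm)

theorem coe_incGSp (hm : 0 < m) (h : Cfsg.GSp m (fixField σ)) :
    ((incGSp σ hm h).1 : Mm) = (h.1 : Matrix ℓ ℓ (fixField σ)).map (fixField σ).subtype := rfl

theorem mapGSp_incGSp (hm : 0 < m) (h : Cfsg.GSp m (fixField σ)) :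
    mapGSp σ (incGSp σ hm h) = incGSp σ hm h :=
  Subtype.ext (Units.ext (Matrix.ext fun i j => ((h.1 : Matrix ℓ ℓ (fixField σ)) i j).2))

theorem mult_incGSp (hm : 0 < m) (h : Cfsg.GSp m (fixField σ)) :
    AutPSp.mult hm (incGSp σ hm h) =
      Units.map (fixField σ).subtype.toMonoidHom (AutPSp.mult hm h) := by
  refine mult_eq hm (gram_iff.2 ?_)
  have h1 := congrArg (fun A => A.map (fixField σ).subtype) ((gram_iff).1 (mult_spec hm h))
  simp only [Matrix.map_mul, Matrix.transpose_map, map_J_subtype] at h1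
  rw [coe_incGSp, h1]
  ext i j
  have hJ' : (fixField σ).subtype (J (Fin m) (fixField σ) i j) = J (Fin m) F i j :=
    congrFun (congrFun (map_J_subtype σ) i) j
  simp [← hJ']

/-- `GSp_{2m}(q₀)` acting on `PSp_{2m}(q)`. -/
def incAut (hm : 0 < m) : Cfsg.GSp m (fixField σ) →* MulAut PSpm := conjAut.comp (incGSp σ hm)

/-- `Sp_{2m}(q₀)` acting on `PSp_{2m}(q)`. -/
def subAut (hm : 0 < m) : Matrix.symplecticGroup (Fin m) (fixField σ) →* MulAut PSpm :=
  (incAut σ hm).comp toGSp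

theorem incAut_comm (hm : 0 < m) (h : Cfsg.GSp m (fixField σ)) :
    incAut σ hm h * fieldAut σ = fieldAut σ * incAut σ hm h := by
  show conjAut (incGSp σ hm h) * _ = _ * conjAut (incGSp σ hm h)
  rw [fieldAut_conjAut, mapGSp_incGSp]

theorem subAut_range_le (hm : 0 < m) :
    (subAut σ hm).range ≤ Cfsg.Inn PSpm ⊓ Subgroup.centralizer {fieldAut σ} := by
  rintro _ ⟨s, rfl⟩
  refine ⟨?_, Subgroup.mem_centralizer_singleton_iff.2 (incAut_comm σ hm _)⟩
  rw [inn_eq_map hm]
  refine ⟨incGSp σ hm (toGSp s), ?_, rfl⟩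
  have : AutPSp.mult hm (toGSp s) = 1 := by
    rw [← MonoidHom.mem_ker, ← range_toGSp hm]; exact ⟨s, rfl⟩
  rw [SetLike.mem_coe, MonoidHom.mem_ker, mult_incGSp, this, map_one]

theorem conj_mem_subAut_range (hm : 0 < m) (h : Cfsg.GSp m (fixField σ)) :
    ∀ n ∈ (subAut σ hm).range, incAut σ hm h * n * (incAut σ hm h)⁻¹ ∈ (subAut σ hm).range := by
  rintro _ ⟨s, rfl⟩
  refine ⟨conjSp h s, ?_⟩
  show incAut σ hm (toGSp (conjSp h s)) = incAut σ hm h * incAut σ hm (toGSp s) * _
  rw [← map_inv, ← map_mul, ← map_mul]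
  congr 1
  exact Subtype.ext (Units.ext rfl)

/-- The centraliser of a field automorphism in `Inndiag`. -/
theorem inndiag_centralizer_le [Finite F] (hm : 2 ≤ m) :
    Cfsg.inndiagPSp m F ⊓ Subgroup.centralizer {fieldAut σ} ≤ (incAut (m := m) σ (by omega)).range := by
  classical
  have hm0 : 0 < m := by omega
  rw [inndiag_inf_centralizer]
  rintro _ ⟨g, hg, rfl⟩
  rw [SetLike.mem_coe, mem_cent, fieldAut_conjAut] at hg
  have h1 := mul_right_cancel hg
  obtain ⟨c, hc⟩ := exists_scalar_of_conjAut_eq_one hm (g := mapGSp σ g * g⁻¹)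
    (by rw [map_mul, map_inv, ← h1, mul_inv_cancel])
  have hent : ∀ i j, σ ((g.1 : Mm) i j) = (c : F) * (g.1 : Mm) i j := by
    intro i j
    have h2 : mapGSp σ g = scalarGSp c * g := by rw [← hc, inv_mul_cancel_right]
    have := congrArg (fun A : Cfsg.GSp m F => (A.1 : Mm) i j) h2
    simpa [coe_mapGSp, coe_scalarGSp] using this
  haveI : Nonempty ℓ := ⟨Sum.inl ⟨0, hm0⟩⟩
  obtain ⟨i₀, j₀, h0⟩ : ∃ i j, (g.1 : Mm) i j ≠ 0 := by
    by_contra h
    push Not at h
    exact g.1.ne_zero (Matrix.ext h)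
  set z : Fˣ := Units.mk0 _ h0
  have hfix : ∀ i j, σ ((z : F)⁻¹ * (g.1 : Mm) i j) = (z : F)⁻¹ * (g.1 : Mm) i j := fun i j => by
    rw [map_mul, map_inv₀, Units.val_mk0, hent, hent, _root_.mul_inv_rev, mul_assoc,
      inv_mul_cancel_left₀ c.ne_zero]
  let Y : Matrix ℓ ℓ (fixField σ) := Matrix.of fun i j => ⟨(z : F)⁻¹ * (g.1 : Mm) i j, hfix i j⟩
  have hY : Y.map (fixField σ).subtype = (z : F)⁻¹ • (g.1 : Mm) := Matrix.ext fun i j => rfl
  have hdet : IsUnit Y := by
    rw [Matrix.isUnit_iff_isUnit_det, isUnit_iff_ne_zero]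
    intro h
    have h2 := (fixField σ).subtype.map_det Y
    rw [RingHom.mapMatrix_apply, hY, h, map_zero, Matrix.det_smul] at h2
    exact mul_ne_zero (pow_ne_zero _ (inv_ne_zero z.ne_zero))
      ((Matrix.isUnit_iff_isUnit_det _).1 g.1.isUnit).ne_zero h2.symm
  have hgram : ((z : F)⁻¹ • (g.1 : Mm))ᵀ * J (Fin m) F * ((z : F)⁻¹ • (g.1 : Mm)) =
      ((z : F)⁻¹ * (z : F)⁻¹ * (AutPSp.mult hm0 g : Fˣ)) • J (Fin m) F := by
    rw [Matrix.transpose_smul, Matrix.smul_mul, Matrix.smul_mul, Matrix.mul_smul,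
      gram_iff.1 (mult_spec hm0 g), smul_smul, smul_smul]
  set o : Fin m := ⟨0, hm0⟩
  have hgram' := congrFun (congrFun hgram (Sum.inr o)) (Sum.inl o)
  rw [← hY, ← map_J_subtype σ, ← Matrix.transpose_map, ← Matrix.map_mul, ← Matrix.map_mul,
    Matrix.map_apply] at hgram'
  set c₀ := (Yᵀ * J (Fin m) (fixField σ) * Y) (Sum.inr o) (Sum.inl o)
  have hc₀ : (fixField σ).subtype c₀ = (z : F)⁻¹ * (z : F)⁻¹ * (AutPSp.mult hm0 g : Fˣ) := by
    rw [hgram']; simp [Matrix.J, Matrix.fromBlocks_map, Matrix.map_one]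
  have hc₀0 : c₀ ≠ 0 := fun h => by
    rw [h, map_zero] at hc₀
    exact mul_ne_zero (mul_ne_zero (inv_ne_zero z.ne_zero) (inv_ne_zero z.ne_zero)) (Units.ne_zero _) hc₀.symm
  have hYmem : hdet.unit ∈ Cfsg.GSp m (fixField σ) := mem_GSp_iff.2 ⟨Units.mk0 c₀ hc₀0, gram_iff.2 (by
    apply Matrix.map_injective (fixField σ).subtype.injective
    dsimp only
    rw [show (hdet.unit : Matrix ℓ ℓ (fixField σ)) = Y from rfl, Matrix.map_mul, Matrix.map_mul,
      Matrix.transpose_map, map_J_subtype, hY, hgram, ← hc₀]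
    ext i j
    have hJ' : (fixField σ).subtype (J (Fin m) (fixField σ) i j) = J (Fin m) F i j :=
      congrFun (congrFun (map_J_subtype σ) i) j
    simp [← hJ'])⟩
  refine ⟨⟨_, hYmem⟩, ?_⟩
  have hg' : g = scalarGSp z * incGSp σ hm0 ⟨_, hYmem⟩ := Subtype.ext (Units.ext (by
    show _ = ((scalarGSp (m := m) z).1 : Mm) * Y.map (fixField σ).subtype
    rw [coe_scalarGSp, hY, Matrix.smul_mul, Matrix.one_mul, smul_smul, mul_inv_cancel₀ z.ne_zero, one_smul]))
  show conjAut (incGSp σ hm0 ⟨_, hYmem⟩) = conjAut g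
  rw [hg', map_mul, conjAut_scalarGSp, one_mul]

theorem two_dvd_card_subAut_range [Finite F] (hm : 2 ≤ m) :
    2 ∣ Nat.card (subAut (m := m) σ (show 0 < m by omega)).range := by
  have hm0 : 0 < m := by omega
  let j : Matrix.symplecticGroup (Fin m) (fixField σ) := SymplecticGroup.symJ (Fin m) (fixField σ)
  have hjj : subAut σ hm0 (j * j) = 1 := by
    refine conjAut_eq_one_of_scalar (c := -1) ?_
    show ((J (Fin m) (fixField σ)) * J (Fin m) (fixField σ)).map (fixField σ).subtype = _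
    rw [Matrix.J_squared]
    simp [Matrix.map_neg, Matrix.map_one]
  have hj : subAut σ hm0 j ≠ 1 := by
    intro h
    obtain ⟨c, hc⟩ := exists_scalar_of_conjAut_eq_one hm (g := incGSp σ hm0 (toGSp j)) h
    have h1 := congrArg (fun A : Cfsg.GSp m F => (A.1 : Mm) (Sum.inr ⟨0, hm0⟩) (Sum.inl ⟨0, hm0⟩)) hc
    have e : ((incGSp σ hm0 (toGSp j)).1 : Mm) = J (Fin m) F := map_J_subtype σ
    simp [e, coe_scalarGSp, Matrix.J] at h1
  have ho : orderOf (subAut σ hm0 j) = 2 := by
    haveI : Fact (Nat.Prime 2) := ⟨Nat.prime_two⟩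
    exact orderOf_eq_prime (by rw [sq, ← map_mul]; exact hjj) hj
  rw [← ho]
  exact Subgroup.orderOf_dvd_natCard _ (MonoidHom.mem_range.2 ⟨j, rfl⟩)

/-- If `p` divides the order of a subgroup of `PGSp_{2m}(q₀)`, it divides `|PSp_{2m}(q₀)|`. -/
theorem dvd_card_subAut_range [Finite F] (hm : 2 ≤ m) {p : ℕ} [hp : Fact p.Prime]
    {D : Subgroup (MulAut PSpm)} (hD : D ≤ (incAut (m := m) σ (show 0 < m by omega)).range)
    (hpD : p ∣ Nat.card D) : p ∣ Nat.card (subAut (m := m) σ (show 0 < m by omega)).range := by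
  have hm0 : 0 < m := by omega
  rcases hp.out.eq_two_or_odd' with rfl | ⟨k, hk⟩
  · exact two_dvd_card_subAut_range σ hm
  obtain ⟨⟨y, hy⟩, hoy⟩ := exists_prime_orderOf_dvd_card' p hpD
  rw [Subgroup.orderOf_mk] at hoy
  obtain ⟨h, rfl⟩ := hD hy
  set μ := AutPSp.mult hm0 h
  have hker : (scalarGSp μ)⁻¹ * h ^ 2 ∈ (toGSp : _ →* Cfsg.GSp m (fixField σ)).range := by
    rw [range_toGSp hm0, MonoidHom.mem_ker, map_mul, map_inv, map_pow, mult_scalarGSp, inv_mul_cancel]
  obtain ⟨s, hs⟩ := hker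
  have hsq : incAut σ hm0 h ^ 2 ∈ (subAut σ hm0).range := by
    refine ⟨s, ?_⟩
    show incAut σ hm0 (toGSp s) = _
    rw [hs, map_mul, map_inv, map_pow]
    suffices incAut σ hm0 (scalarGSp μ) = 1 by rw [this, inv_one, one_mul]
    refine conjAut_eq_one_of_scalar (c := Units.map (fixField σ).subtype.toMonoidHom μ) ?_
    rw [coe_incGSp, coe_scalarGSp]
    ext i j
    rcases eq_or_ne i j with rfl | hij <;> simp [*]
  have hy' : incAut σ hm0 h ∈ (subAut σ hm0).range := by
    have : (incAut σ hm0 h ^ 2) ^ (k + 1) = incAut σ hm0 h := by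
      rw [← pow_mul, show 2 * (k + 1) = p + 1 by omega, pow_succ, ← hoy, pow_orderOf_eq_one, one_mul]
    rw [← this]
    exact pow_mem hsq _
  rw [← hoy]
  exact Subgroup.orderOf_dvd_natCard _ hy'

/-- Normal `p'`-subgroups of `PSp_{2m}(q₀)` are trivial. -/
theorem eq_bot_of_le_subAut_range [Finite F] (hm : 2 ≤ m) (r : ℕ) [Fact r.Prime] [CharP F r] {p : ℕ}
    [hp : Fact p.Prime] (hpr : p ≠ r) (hpN : p ∣ Nat.card (subAut (m := m) σ (show 0 < m by omega)).range)
    (W : Subgroup (MulAut PSpm)) (hW : W ≤ (subAut (m := m) σ (show 0 < m by omega)).range)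
    (hWn : ∀ n ∈ (subAut (m := m) σ (show 0 < m by omega)).range, ∀ w ∈ W, n * w * n⁻¹ ∈ W)
    (hWp : ¬ p ∣ Nat.card W) : W = ⊥ := by
  have hm0 : 0 < m := by omega
  set θ := subAut (m := m) σ hm0
  haveI : CharP (fixField σ) r := (fixField σ).charP r
  haveI : (W.comap θ).Normal := ⟨fun w hw g => by
    rw [Subgroup.mem_comap, map_mul, map_mul, map_inv]
    exact hWn _ ⟨g, rfl⟩ _ hw⟩
  rcases normal_sp_cases (W.comap θ) with h | h
  · rw [eq_bot_iff]
    intro w hw
    obtain ⟨s, rfl⟩ := hW hw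
    rw [Subgroup.mem_bot]
    rcases mem_center_sp_iff.1 (h hw) with hs | hs
    · refine conjAut_eq_one_of_scalar (c := 1) ?_
      show (s : Matrix ℓ ℓ (fixField σ)).map (fixField σ).subtype = _
      rw [hs]; simp [Matrix.map_one]
    · refine conjAut_eq_one_of_scalar (c := -1) ?_
      show (s : Matrix ℓ ℓ (fixField σ)).map (fixField σ).subtype = _
      rw [hs]; simp [Matrix.map_one, Matrix.map_neg]
  · exfalso
    obtain ⟨k, hk⟩ := IsPGroup.iff_card.1 (isPGroup_sp_quotient r (W.comap θ) h)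
    have h1 := Subgroup.relIndex_mul_relIndex (⊥ : Subgroup (MulAut PSpm)) W θ.range bot_le hW
    rw [Subgroup.relIndex_bot_left, Subgroup.relIndex_bot_left, ← Subgroup.index_comap,
      show (W.comap θ).index = r ^ k from hk] at h1
    rw [← h1] at hpN
    rcases hp.out.dvd_mul.1 hpN with h2 | h2
    · exact hWp h2
    · exact hpr ((Nat.prime_dvd_prime_iff_eq hp.out Fact.out).1 (hp.out.dvd_of_dvd_pow h2))

/-- An automorphism `conjAut g * fieldAut τ` fixing the root elements over the fixed field of `σ`. -/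
theorem fix_fixField_of_fix_tr (hm : 2 ≤ m) {g : Cfsg.GSp m F} {τ : F ≃+* F}
    (h : ∀ v : Vm, v ≠ 0 → (∀ i, σ (v i) = v i) →
      (conjAut g * fieldAut τ : MulAut PSpm) (tr v 1) = tr v 1) :
    (∃ c : Fˣ, (g.1 : Mm) = (c : F) • (1 : Mm)) ∧ ∀ t, σ t = t → τ t = t := by
  classical
  obtain ⟨μ, hμ⟩ := mem_GSp_iff.1 g.2
  have heig : ∀ v : Vm, v ≠ 0 → (∀ i, σ (v i) = v i) → ∃ a : F, (g.1 : Mm) *ᵥ (⇑τ ∘ v) = a • v := by
    intro v hv hvσ
    have h1 := h v hv hvσ
    rw [MulAut.mul_apply, fieldAut_tr, conjAut_tr g _ _ (μ := μ) hμ] at h1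
    obtain ⟨a, -, ha⟩ := par_of_tr_eq hm hv one_ne_zero h1.symm
    exact ⟨a, ha⟩
  have hsg : ∀ (k : ℓ), ⇑τ ∘ (Pi.single k 1 : Vm) = Pi.single k 1 := fun k => by
    funext j; simp [Pi.single_apply, apply_ite τ]
  have hoff : ∀ k l, k ≠ l → (g.1 : Mm) k l = 0 := fun k l hkl => by
    obtain ⟨a, ha⟩ := heig _ (show (Pi.single l 1 : Vm) ≠ 0 by simp)
      (fun i => by simp [Pi.single_apply, apply_ite σ])
    have := congrFun ha k
    simpa [hsg, Matrix.mulVec_single, hkl] using this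
  have hkey : ∀ k l, k ≠ l → ∀ t : F, σ t = t → τ t * (g.1 : Mm) l l = t * (g.1 : Mm) k k := by
    intro k l hkl t ht
    have hv : (Pi.single k 1 + t • Pi.single l 1 : Vm) ≠ 0 := fun e => by
      have := congrFun e k; simp [hkl] at this
    obtain ⟨a, ha⟩ := heig _ hv (fun i => by
      simp [Pi.single_apply, apply_ite σ, ht])
    have he : ⇑τ ∘ (Pi.single k 1 + t • Pi.single l 1 : Vm) = Pi.single k 1 + τ t • Pi.single l 1 := by
      funext j; simp [Pi.single_apply, apply_ite τ]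
    rw [he] at ha
    have hk := congrFun ha k
    have hl := congrFun ha l
    simp [Matrix.mulVec_add, Matrix.mulVec_smul, Matrix.mulVec_single, hkl, hkl.symm, hoff k l hkl,
      hoff l k hkl.symm] at hk hl
    rw [hl, hk]; ring
  let k₀ : ℓ := Sum.inl ⟨0, by omega⟩
  have hdg : ∀ k, (g.1 : Mm) k k = (g.1 : Mm) k₀ k₀ := fun k => by
    rcases eq_or_ne k k₀ with rfl | hk
    · rfl
    · simpa using hkey k₀ k hk.symm 1 (map_one σ)
  have hne : (g.1 : Mm) k₀ k₀ ≠ 0 := fun h0 => by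
    have hu := ((Matrix.isUnit_iff_isUnit_det _).1 g.1.isUnit).ne_zero
    exact hu (Matrix.det_eq_zero_of_column_eq_zero k₀ fun i => by
      rcases eq_or_ne i k₀ with rfl | hi
      · exact h0
      · exact hoff i k₀ hi)
  refine ⟨⟨Units.mk0 _ hne, ?_⟩, fun t ht => ?_⟩
  · ext i j
    rcases eq_or_ne i j with rfl | hij
    · simp [hdg i]
    · simp [hoff i j hij, hij]
  · have := hkey k₀ (Sum.inl ⟨1, by omega⟩) (by simp [k₀]) t ht
    rw [hdg (Sum.inl ⟨1, by omega⟩)] at this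
    exact mul_right_cancel₀ hne this

/-- The automorphism of a root element over the fixed field. -/
theorem conj_tr_mem_subAut_range (hm : 0 < m) {v : Vm} (hv : ∀ i, σ (v i) = v i) :
    (MulAut.conj (tr v 1 : PSpm)) ∈ (subAut σ hm).range := by
  refine ⟨tvS (fun i => ⟨v i, hv i⟩) 1, ?_⟩
  rw [tr, ← conjAut_toGSp]
  refine congrArg conjAut (Subtype.ext (Units.ext ?_))
  refine Matrix.mulVec_injective (funext fun x => ?_)
  show ((tvS (m := m) (fun i => (⟨v i, hv i⟩ : fixField σ)) 1 : Matrix ℓ ℓ (fixField σ))).map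
      (fixField σ).subtype *ᵥ x = (tvS v 1 : Mm) *ᵥ x
  revert x
  have : ((tvS (m := m) (fun i => (⟨v i, hv i⟩ : fixField σ)) 1 : Matrix ℓ ℓ (fixField σ))).map
      (fixField σ).subtype = (tvS v 1 : Mm) := by
    show (Cfsg.sympTransvection m _ _).map _ = Cfsg.sympTransvection m v 1
    simp only [Cfsg.sympTransvection]
    ext i j
    have hJ' : ∀ a b, ((J (Fin m) (fixField σ) a b : fixField σ) : F) = J (Fin m) F a b := fun a b =>
      congrFun (congrFun (map_J_subtype σ) a) b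
    rcases eq_or_ne i j with rfl | hij <;>
      simp [Matrix.vecMulVec, Matrix.mulVec, dotProduct, hJ', *]
  intro x
  rw [this]

end Cfsg.Agent.Lib.AutPSp
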