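import Cfsg.Agent.Lib.AutPSp.Root
import Cfsg.Agent.Lib.Geometry.Collineation
import Cfsg.Agent.Lib.AutPSL.FixField

/-!
Automorphisms of `PSp_{2m}(q)`, `(m, p) ≠ (2, 2)`: they are induced by semilinear similitudes.
-/

set_option autoImplicit false

namespace Cfsg.Agent.Lib.AutPSp

open Matrix Cfsg.Agent.Lib.Symplectic

variable {m : ℕ} {F : Type*} [Field F]

local notation "ℓ" => (Fin m ⊕ Fin m)
local notation "Vm" => (Fin m ⊕ Fin m → F)
local notation "Mm" => Matrix (Fin m ⊕ Fin m) (Fin m ⊕ Fin m) F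
local notation "GLm" => GL (Fin m ⊕ Fin m) F
local notation "Spm" => Matrix.symplecticGroup (Fin m) F
local notation "PSpm" => Cfsg.PSp m F
local notation "sB" => stdForm m F

theorem par_of_perp {w z : Vm} (hz : z ≠ 0) (h : ∀ x : Vm, sB x z = 0 → sB x w = 0) :
    ∃ a : F, w = a • z := by
  obtain ⟨x, hx⟩ := exists_not_perp hz
  refine ⟨sB x w / sB x z, sub_eq_zero.1 ((isSympForm_stdForm m F).nondeg _ fun y => ?_)⟩
  rw [(isSympForm_stdForm m F).swap, neg_eq_zero]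
  have h1 := h (y - (sB y z / sB x z) • x) (by
    simp [map_sub, map_smul, div_mul_cancel₀ _ hx])
  simp only [map_sub, map_smul, LinearMap.sub_apply, LinearMap.smul_apply, smul_eq_mul] at h1 ⊢
  field_simp at h1 ⊢
  linear_combination h1

theorem exists_similitude_of_orth {g : GLm}
    (h : ∀ u w : Vm, sB u w = 0 → sB ((g : Mm) *ᵥ u) ((g : Mm) *ᵥ w) = 0) : g ∈ Cfsg.GSp m F := by
  classical
  set M : Mm := -(J (Fin m) F * ((g : Mm)ᵀ * J (Fin m) F * (g : Mm))) with hM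
  have hrep : ∀ u w : Vm, sB ((g : Mm) *ᵥ u) ((g : Mm) *ᵥ w) = sB u (M *ᵥ w) := by
    intro u w
    rw [mulVec_form, stdForm_eq_dot, Matrix.mulVec_mulVec, hM, Matrix.mul_neg, ← Matrix.mul_assoc (J (Fin m) F),
      J_squared, Matrix.neg_mul, Matrix.one_mul, neg_neg]
  have heig : ∀ w : Vm, w ≠ 0 → ∃ a : F, M *ᵥ w = a • w := fun w hw =>
    par_of_perp hw fun x hx => by rw [← hrep]; exact h x w hx
  choose a ha using heig
  have he : ∀ k : ℓ, (Pi.single k 1 : Vm) ≠ 0 := fun k => by simp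
  have hoff : ∀ k l, k ≠ l → M k l = 0 := fun k l hkl => by
    have := congrFun (ha _ (he l)) k
    simpa [Matrix.mulVec_single, hkl] using this
  have hdg : ∀ k l, M k k = M l l := by
    intro k l
    rcases eq_or_ne k l with rfl | hkl
    · rfl
    have hv : (Pi.single k 1 + Pi.single l 1 : Vm) ≠ 0 := fun e => by
      have := congrFun e k; simp [hkl] at this
    have hk := congrFun (ha _ hv) k
    have hl := congrFun (ha _ hv) l
    simp [Matrix.mulVec_add, Matrix.mulVec_single, hkl, hkl.symm, hoff k l hkl, hoff l k hkl.symm] at hk hl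
    rw [hk, hl]
  rcases isEmpty_or_nonempty ℓ with hem | ⟨⟨k⟩⟩
  · exact mem_GSp_iff.2 ⟨1, fun u v => by simp [Subsingleton.elim u 0]⟩
  have hMs : M = M k k • (1 : Mm) := by
    ext i j
    rcases eq_or_ne i j with rfl | hij
    · simp [hdg i k]
    · simp [hoff i j hij, hij]
  have hk0 : M k k ≠ 0 := by
    intro h0
    obtain ⟨x, hx⟩ := exists_not_perp (he k)
    have h1 := hrep (((g⁻¹ : GLm) : Mm) *ᵥ x) (((g⁻¹ : GLm) : Mm) *ᵥ Pi.single k 1)
    rw [Matrix.mulVec_mulVec, Matrix.mulVec_mulVec, ← Units.val_mul, mul_inv_cancel, Units.val_one,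
      Matrix.one_mulVec, Matrix.one_mulVec, hMs, h0, zero_smul, Matrix.zero_mulVec, map_zero] at h1
    exact hx h1
  refine mem_GSp_iff.2 ⟨Units.mk0 _ hk0, fun u v => ?_⟩
  rw [hrep, show M *ᵥ v = M k k • v by conv_lhs => rw [hMs, Matrix.smul_mulVec, Matrix.one_mulVec],
    map_smul, smul_eq_mul]
  rfl

variable [Finite F]

/-- An automorphism maps transvection groups to transvection groups, preserving orthogonality. -/
theorem exists_point_map (hm : 2 ≤ m) (α : MulAut PSpm)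
    (hα : ∀ (v : Vm) (c : F), v ≠ 0 → c ≠ 0 → ∃ (w : Vm) (d : F), w ≠ 0 ∧ d ≠ 0 ∧ α (tr v c) = tr w d)
    (hα' : ∀ (v : Vm) (c : F), v ≠ 0 → c ≠ 0 → ∃ (w : Vm) (d : F), w ≠ 0 ∧ d ≠ 0 ∧ α⁻¹ (tr v c) = tr w d) :
    ∃ π : Vm → Vm, (∀ v, v ≠ 0 → π v ≠ 0) ∧
      (∀ u v, u ≠ 0 → v ≠ 0 → (sB (π u) (π v) = 0 ↔ sB u v = 0)) ∧
      ∀ v, v ≠ 0 → ∀ c, c ≠ 0 → ∃ d, d ≠ 0 ∧ α (tr v c) = tr (π v) d := by
  classical
  have hone : ∀ v : Vm, ∃ w : Vm, v ≠ 0 → w ≠ 0 ∧ ∃ d : F, d ≠ 0 ∧ α (tr v 1) = tr w d := fun v => by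
    by_cases hv : v = 0
    · exact ⟨0, fun h => absurd hv h⟩
    · obtain ⟨w, d, hw, hd, h⟩ := hα v 1 hv one_ne_zero
      exact ⟨w, fun _ => ⟨hw, d, hd, h⟩⟩
  choose π hπ using hone
  have hcm : ∀ x y : PSpm, Commute (α x) (α y) ↔ Commute x y := fun x y =>
    ⟨fun h => α.injective (by rw [map_mul, map_mul]; exact h.eq), fun h => h.map α⟩
  refine ⟨π, fun v hv => (hπ v hv).1, ?_, ?_⟩
  · intro u v hu hv
    obtain ⟨hu', d, hd, hud⟩ := hπ u hu
    obtain ⟨hv', e, he, hve⟩ := hπ v hv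
    rw [← commute_tr_iff hm hu' hv' hd he, ← hud, ← hve, hcm,
      commute_tr_iff hm hu hv one_ne_zero one_ne_zero]
  · intro v hv c hc
    obtain ⟨w, e, hw, he, hwe⟩ := hα v c hv hc
    obtain ⟨hv', d, hd, hvd⟩ := hπ v hv
    obtain ⟨a, ha⟩ : ∃ a : F, w = a • π v := par_of_perp hv' fun x hx => by
      rcases eq_or_ne x 0 with rfl | hx0
      · simp
      obtain ⟨u, c', hu, hc', hu'⟩ := hα' x 1 hx0 one_ne_zero
      have hux : α (tr u c') = tr x 1 := by rw [← hu']; exact α.apply_symm_apply _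
      rw [← commute_tr_iff hm hx0 hv' one_ne_zero hd, ← hvd, ← hux, hcm,
        commute_tr_iff hm hu hv hc' one_ne_zero] at hx
      rw [← commute_tr_iff hm hx0 hw one_ne_zero he, ← hwe, ← hux, hcm,
        commute_tr_iff hm hu hv hc' hc]
      exact hx
    refine ⟨a ^ 2 * e, mul_ne_zero (pow_ne_zero 2 fun h => hw (by rw [ha, h, zero_smul])) he, ?_⟩
    rw [hwe, ha, tr_smul]

omit [Finite F] in
theorem eq_one_of_fix_points (hm : 2 ≤ m) (β : MulAut PSpm)
    (h : ∀ v : Vm, v ≠ 0 → ∀ c : F, c ≠ 0 → ∃ d : F, d ≠ 0 ∧ β (tr v c) = tr v d) : β = 1 := by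
  have hfix : ∀ v c, β (tr v c) = tr v c := by
    intro v c
    rcases eq_or_ne c 0 with rfl | hc
    · rw [tr_zero, map_one]
    rcases eq_or_ne v 0 with rfl | hv
    · rw [show tr (0 : Vm) c = tr (0 : Vm) 0 from congrArg QuotientGroup.mk (sp_ext fun x => by simp [tvS_mulVec]), tr_zero,
        map_one]
    obtain ⟨d, -, hd⟩ := h v hv c hc
    suffices hcd : d = c by rw [hd, hcd]
    obtain ⟨u, hu⟩ := exists_not_perp hv
    have hu0 : u ≠ 0 := fun h0 => hu (by rw [h0, map_zero, LinearMap.zero_apply])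
    have hw0 : u + (c * sB u v) • v ≠ 0 := fun h0 => hu (by
      have := congrArg (fun y => sB y v) h0
      simpa [(isSympForm_stdForm m F).self] using this)
    obtain ⟨e, he, hue⟩ := h u hu0 1 one_ne_zero
    obtain ⟨e', he', hwe⟩ := h _ hw0 1 one_ne_zero
    have key : ∀ k l : F, tr v k * tr u l * (tr v k)⁻¹ = tr (u + (k * sB u v) • v) l := fun k l => by
      rw [← tvS_mulVec]; exact conj_tr (tvS v k) u l
    have h1 := congrArg β (key c 1)
    rw [map_mul, map_mul, map_inv, hd, hue, key, hwe] at h1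
    obtain ⟨a, ha0, ha⟩ := par_of_tr_eq hm (fun h0 => hu (by
      have := congrArg (fun y => sB y v) h0
      simpa [(isSympForm_stdForm m F).self] using this)) he h1
    have ha1 : a = 1 := by
      have := congrArg (fun y => sB y v) ha
      simpa [(isSympForm_stdForm m F).self, hu] using this
    rw [ha1, one_smul, add_right_inj] at ha
    have := congrArg (fun y => sB u y) ha
    simp [hu] at this
    exact this.symm
  have hhom : (β.toMonoidHom.comp (QuotientGroup.mk' (Subgroup.center Spm))) =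
      QuotientGroup.mk' (Subgroup.center Spm) := by
    refine MonoidHom.eq_of_eqOn_dense closure_sympTransvection_eq_top fun A hA => ?_
    obtain ⟨w, c, hA⟩ := hA
    rw [show A = tvS w c from Subtype.ext hA]
    exact hfix w c
  refine MulEquiv.ext fun x => ?_
  obtain ⟨s, rfl⟩ := QuotientGroup.mk_surjective x
  exact DFunLike.congr_fun hhom s

/-- An automorphism preserving the transvections is induced by a semilinear similitude. -/
theorem exists_decomp_of (hm : 2 ≤ m) (α : MulAut PSpm)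
    (hα : ∀ (v : Vm) (c : F), v ≠ 0 → c ≠ 0 → ∃ (w : Vm) (d : F), w ≠ 0 ∧ d ≠ 0 ∧ α (tr v c) = tr w d)
    (hα' : ∀ (v : Vm) (c : F), v ≠ 0 → c ≠ 0 → ∃ (w : Vm) (d : F), w ≠ 0 ∧ d ≠ 0 ∧ α⁻¹ (tr v c) = tr w d) :
    ∃ (g : Cfsg.GSp m F) (σ : F ≃+* F), α = conjAut g * fieldAut σ := by
  classical
  obtain ⟨π, hπ0, hπo, hπt⟩ := exists_point_map hm α hα hα'
  have hJJ : ∀ w : Vm, J (Fin m) F *ᵥ (-(J (Fin m) F *ᵥ w)) = w := fun w => by
    rw [Matrix.mulVec_neg, Matrix.mulVec_mulVec, J_squared, Matrix.neg_mulVec, neg_neg, Matrix.one_mulVec]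
  have hJinj : ∀ w : Vm, w ≠ 0 → -(J (Fin m) F *ᵥ w) ≠ 0 := fun w hw h => hw (by
    rw [← hJJ w, h, Matrix.mulVec_zero])
  let π' : Vm → Vm := fun w => J (Fin m) F *ᵥ π (-(J (Fin m) F *ᵥ w))
  have hiff : ∀ v w, v ≠ 0 → w ≠ 0 → (π' w ⬝ᵥ π v = 0 ↔ w ⬝ᵥ v = 0) := by
    intro v w hv hw
    rw [dotProduct_comm, ← stdForm_eq_dot, hπo v _ hv (hJinj w hw), stdForm_eq_dot, hJJ, dotProduct_comm]
  obtain ⟨g, σ, hgσ⟩ := Geometry.exists_semilinear (ι := ℓ) (by simp; omega) π π' hπ0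
    (fun w hw h => hπ0 _ (hJinj w hw) (by
      have := congrArg (fun y => -(J (Fin m) F *ᵥ y)) h
      simpa [π', Matrix.mulVec_mulVec, J_squared, Matrix.neg_mulVec] using this)) hiff
  have hg : g ∈ Cfsg.GSp m F := by
    refine exists_similitude_of_orth fun u w huw => ?_
    rcases eq_or_ne u 0 with rfl | hu
    · simp
    rcases eq_or_ne w 0 with rfl | hw
    · simp
    have hσσ : ∀ y : Vm, ⇑σ ∘ (⇑σ.symm ∘ y) = y := fun y => funext fun i => by simp
    have hy0 : ∀ y : Vm, y ≠ 0 → ⇑σ.symm ∘ y ≠ 0 := fun y hy h => hy (by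
      rw [← hσσ y, h]; funext i; simp)
    obtain ⟨a, ha, h1⟩ := hgσ _ (hy0 u hu)
    obtain ⟨b, hb, h2⟩ := hgσ _ (hy0 w hw)
    rw [hσσ] at h1 h2
    have h3 := (hπo _ _ (hy0 u hu) (hy0 w hw)).2 (σ.injective (by
      rw [← stdForm_map, hσσ, hσσ, huw, map_zero]))
    rw [h1, h2, map_smul, map_smul, LinearMap.smul_apply, smul_eq_mul, smul_eq_mul, mul_eq_zero,
      or_iff_right hb, mul_eq_zero, or_iff_right ha] at h3
    exact h3
  refine ⟨⟨g, hg⟩, σ, ?_⟩
  set γ : MulAut PSpm := conjAut ⟨g, hg⟩ * fieldAut σ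
  suffices h : γ⁻¹ * α = 1 by
    exact (inv_mul_eq_one.1 h).symm
  refine eq_one_of_fix_points hm _ fun v hv c hc => ?_
  obtain ⟨d, hd, hαd⟩ := hπt v hv c hc
  obtain ⟨a, ha, hπv⟩ := hgσ v hv
  obtain ⟨μ, hμ⟩ := mem_GSp_iff.1 hg
  refine ⟨σ.symm (μ * (a ^ 2 * d)), ?_, ?_⟩
  · simp [ha, hd]
  · rw [MulAut.mul_apply, MulAut.inv_apply, MulEquiv.symm_apply_eq, MulAut.mul_apply, fieldAut_tr,
      conjAut_tr ⟨g, hg⟩ _ _ (μ := μ) hμ, RingEquiv.apply_symm_apply, hαd, hπv, tr_smul,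
      mul_div_cancel_left₀ _ μ.ne_zero]

/-- **Automorphisms of `PSp_{2m}(q)`**, `(m, p) ≠ (2, 2)`. -/
theorem exists_decomp (hm : 2 ≤ m) (p : ℕ) [Fact p.Prime] [CharP F p] (h4 : m = 2 → p ≠ 2)
    (α : MulAut PSpm) :
    ∃ (g : Cfsg.GSp m F) (σ : F ≃+* F), α = conjAut g * fieldAut σ :=
  exists_decomp_of hm α
    (fun _ _ hv hc => exists_tr_of_rootLike p hm h4 (rootLike_map α (rootLike_tr p hm hv hc)))
    (fun _ _ hv hc => exists_tr_of_rootLike p hm h4 (rootLike_map α⁻¹ (rootLike_tr p hm hv hc)))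

theorem inndiagPSp_normal (hm : 2 ≤ m) (p : ℕ) [Fact p.Prime] [CharP F p] (h4 : m = 2 → p ≠ 2) :
    (Cfsg.inndiagPSp m F).Normal := by
  rw [inndiagPSp_eq_range]
  refine ⟨?_⟩
  rintro _ ⟨h, rfl⟩ α
  obtain ⟨g, σ, rfl⟩ := exists_decomp hm p h4 α
  refine ⟨g * mapGSp σ h * g⁻¹, ?_⟩
  rw [map_mul, map_mul, map_inv, _root_.mul_inv_rev,
    show conjAut g * fieldAut σ * conjAut h * ((fieldAut σ)⁻¹ * (conjAut g)⁻¹) =
      conjAut g * (fieldAut σ * conjAut h * (fieldAut σ)⁻¹) * (conjAut g)⁻¹ from by simp only [mul_assoc],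
    fieldAut_conjAut, mul_inv_cancel_right]

omit [Finite F] in
/-- Kernel of `(g, σ) ↦ conjAut g * fieldAut σ`. -/
theorem eq_one_of_conj_field (hm : 2 ≤ m) {g : Cfsg.GSp m F} {σ : F ≃+* F}
    (h : (conjAut g * fieldAut σ : MulAut PSpm) = 1) :
    (∃ c : Fˣ, (g.1 : Mm) = (c : F) • (1 : Mm)) ∧ σ = 1 := by
  classical
  obtain ⟨μ, hμ⟩ := mem_GSp_iff.1 g.2
  have heig : ∀ v : Vm, v ≠ 0 → ∃ a : F, (g.1 : Mm) *ᵥ (⇑σ ∘ v) = a • v := by
    intro v hv
    have h1 := DFunLike.congr_fun h (tr v 1)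
    rw [MulAut.mul_apply, fieldAut_tr, conjAut_tr g _ _ (μ := μ) hμ, MulAut.one_apply] at h1
    obtain ⟨a, -, ha⟩ := par_of_tr_eq hm hv one_ne_zero h1.symm
    exact ⟨a, ha⟩
  have hsg : ∀ (k : ℓ), ⇑σ ∘ (Pi.single k 1 : Vm) = Pi.single k 1 := fun k => by
    funext j; simp [Pi.single_apply, apply_ite σ]
  have hoff : ∀ k l, k ≠ l → (g.1 : Mm) k l = 0 := fun k l hkl => by
    obtain ⟨a, ha⟩ := heig _ (show (Pi.single l 1 : Vm) ≠ 0 by simp)
    have := congrFun ha k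
    simpa [hsg, Matrix.mulVec_single, hkl] using this
  have hkey : ∀ k l, k ≠ l → ∀ t : F, σ t * (g.1 : Mm) l l = t * (g.1 : Mm) k k := by
    intro k l hkl t
    have hv : (Pi.single k 1 + t • Pi.single l 1 : Vm) ≠ 0 := fun e => by
      have := congrFun e k; simp [hkl] at this
    obtain ⟨a, ha⟩ := heig _ hv
    have he : ⇑σ ∘ (Pi.single k 1 + t • Pi.single l 1 : Vm) = Pi.single k 1 + σ t • Pi.single l 1 := by
      funext j; simp [Pi.single_apply, apply_ite σ]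
    rw [he] at ha
    have hk := congrFun ha k
    have hl := congrFun ha l
    simp [Matrix.mulVec_add, Matrix.mulVec_smul, Matrix.mulVec_single, hkl, hkl.symm, hoff k l hkl,
      hoff l k hkl.symm] at hk hl
    rw [hl, hk]; ring
  let k₀ : ℓ := Sum.inl ⟨0, by omega⟩
  have hdg : ∀ k, (g.1 : Mm) k k = (g.1 : Mm) k₀ k₀ := fun k => by
    rcases eq_or_ne k k₀ with rfl | hk
    · rfl
    · simpa using hkey k₀ k hk.symm 1
  have hne : (g.1 : Mm) k₀ k₀ ≠ 0 := fun h0 => by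
    have hu := ((Matrix.isUnit_iff_isUnit_det _).1 g.1.isUnit).ne_zero
    exact hu (Matrix.det_eq_zero_of_column_eq_zero k₀ fun i => by
      rcases eq_or_ne i k₀ with rfl | hi
      · exact h0
      · exact hoff i k₀ hi)
  refine ⟨⟨Units.mk0 _ hne, ?_⟩, RingEquiv.ext fun t => ?_⟩
  · ext i j
    rcases eq_or_ne i j with rfl | hij
    · simp [hdg i]
    · simp [hoff i j hij, hij]
  · have := hkey k₀ (Sum.inl ⟨1, by omega⟩) (by simp [k₀]) t
    rw [hdg (Sum.inl ⟨1, by omega⟩)] at this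
    exact mul_right_cancel₀ hne this

omit [Finite F] in
theorem conjAut_eq_one_of_scalar {g : Cfsg.GSp m F} {c : Fˣ} (h : (g.1 : Mm) = (c : F) • (1 : Mm)) :
    (conjAut g : MulAut PSpm) = 1 := by
  refine MulEquiv.ext fun x => ?_
  obtain ⟨s, rfl⟩ := QuotientGroup.mk_surjective x
  rw [conjAut_mk]
  refine congrArg _ (Subtype.ext ?_)
  have hinv : (g.1 : Mm) * ((g.1⁻¹ : GLm) : Mm) = 1 := g.1.mul_inv
  rw [coe_conjSp, show (g.1 : Mm) * (s : Mm) = (s : Mm) * (g.1 : Mm) by rw [h]; simp, Matrix.mul_assoc, hinv,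
    Matrix.mul_one]

omit [Finite F] in
theorem conjAut_eq_one_iff (hm : 2 ≤ m) {g : Cfsg.GSp m F} :
    (conjAut g : MulAut PSpm) = 1 ↔ ∃ c : Fˣ, (g.1 : Mm) = (c : F) • (1 : Mm) :=
  ⟨fun h => (eq_one_of_conj_field hm (σ := 1) (by rw [h, map_one, one_mul])).1,
    fun ⟨_, h⟩ => conjAut_eq_one_of_scalar h⟩

omit [Finite F] in
theorem fieldAut_injective (hm : 2 ≤ m) :
    Function.Injective (fieldAut : (F ≃+* F) →* MulAut PSpm) := by
  refine (injective_iff_map_eq_one _).2 fun σ h => ?_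
  exact (eq_one_of_conj_field hm (g := 1) (σ := σ) (by rw [h, map_one, one_mul])).2

/-- A scalar matrix as a conformal symplectic matrix. -/
def scalarGSp : Fˣ →* Cfsg.GSp m F :=
  (GeneralLinearGroup.scalar (Fin m ⊕ Fin m)).codRestrict _ fun z => mem_GSp_iff.2 ⟨z * z, fun u v => by
    simp [GeneralLinearGroup.coe_scalar, ← Matrix.smul_one_eq_diagonal, Matrix.smul_mulVec, mul_assoc]⟩

omit [Finite F] in
theorem coe_scalarGSp (z : Fˣ) : ((scalarGSp (m := m) z).1 : Mm) = (z : F) • (1 : Mm) := by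
  show ((GeneralLinearGroup.scalar ℓ z : GLm) : Mm) = _
  rw [GeneralLinearGroup.coe_scalar, Matrix.scalar_apply, ← Matrix.smul_one_eq_diagonal]

omit [Finite F] in
theorem multiplier_unique (hm : 0 < m) {g : GLm} {c d : Fˣ}
    (hc : ∀ u v, sB ((g : Mm) *ᵥ u) ((g : Mm) *ᵥ v) = c * sB u v)
    (hd : ∀ u v, sB ((g : Mm) *ᵥ u) ((g : Mm) *ᵥ v) = d * sB u v) : c = d := by
  obtain ⟨x, hx⟩ := exists_not_perp (v := (Pi.single (Sum.inl ⟨0, hm⟩) 1 : Vm)) (by simp)
  exact Units.ext (mul_right_cancel₀ hx ((hc x _).symm.trans (hd x _)))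

/-- The multiplier of a conformal symplectic matrix. -/
noncomputable def mult (hm : 0 < m) : Cfsg.GSp m F →* Fˣ where
  toFun g := (mem_GSp_iff.1 g.2).choose
  map_one' := multiplier_unique hm (mem_GSp_iff.1 (1 : Cfsg.GSp m F).2).choose_spec (fun u v => by simp)
  map_mul' g h := multiplier_unique hm (mem_GSp_iff.1 (g * h).2).choose_spec (fun u v => by
    rw [Subgroup.coe_mul, Units.val_mul, ← Matrix.mulVec_mulVec, ← Matrix.mulVec_mulVec,
      (mem_GSp_iff.1 g.2).choose_spec, (mem_GSp_iff.1 h.2).choose_spec, Units.val_mul, mul_assoc])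

omit [Finite F] in
theorem mult_spec (hm : 0 < m) (g : Cfsg.GSp m F) (u v : Vm) :
    sB ((g.1 : Mm) *ᵥ u) ((g.1 : Mm) *ᵥ v) = mult hm g * sB u v :=
  (mem_GSp_iff.1 g.2).choose_spec u v

omit [Finite F] in
theorem mult_eq (hm : 0 < m) {g : Cfsg.GSp m F} {c : Fˣ}
    (h : ∀ u v, sB ((g.1 : Mm) *ᵥ u) ((g.1 : Mm) *ᵥ v) = c * sB u v) : mult hm g = c :=
  multiplier_unique hm (mult_spec hm g) h

/-- `diag(c, …, c, 1, …, 1)`. -/
def torus : Fˣ →* Cfsg.GSp m F where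
  toFun c := ⟨⟨diagonal (Sum.elim (fun _ => (c : F)) fun _ => 1), diagonal (Sum.elim (fun _ => ((c⁻¹ : Fˣ) : F)) fun _ => 1),
      by rw [diagonal_mul_diagonal, ← diagonal_one]; congr 1; funext i; rcases i with i | i <;> simp,
      by rw [diagonal_mul_diagonal, ← diagonal_one]; congr 1; funext i; rcases i with i | i <;> simp⟩,
    mem_GSp_iff.2 ⟨c, fun u v => by
      simp [stdForm_apply, mulVec_diagonal]
      rw [mul_sub, Finset.mul_sum, Finset.mul_sum]
      congr 1 <;> exact Finset.sum_congr rfl fun i _ => by ring⟩⟩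
  map_one' := Subtype.ext (Units.ext (by
    show diagonal _ = (1 : Mm)
    rw [← diagonal_one]; congr 1; funext i; rcases i with i | i <;> simp))
  map_mul' a b := Subtype.ext (Units.ext (by
    show diagonal _ = diagonal _ * diagonal _
    rw [diagonal_mul_diagonal]; congr 1; funext i; rcases i with i | i <;> simp))

omit [Finite F] in
theorem mult_torus (hm : 0 < m) (c : Fˣ) : mult hm (torus (m := m) c) = c :=
  mult_eq hm fun u v => by
    simp [torus, stdForm_apply, mulVec_diagonal]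
    rw [mul_sub, Finset.mul_sum, Finset.mul_sum]
    congr 1 <;> exact Finset.sum_congr rfl fun i _ => by ring

omit [Finite F] in
theorem range_toGSp (hm : 0 < m) : (toGSp : Spm →* Cfsg.GSp m F).range = (mult hm).ker := by
  ext g
  rw [MonoidHom.mem_ker]
  constructor
  · rintro ⟨s, rfl⟩
    exact mult_eq hm fun u v => by rw [Units.val_one, one_mul]; exact sp_preserves s u v
  · intro hg
    refine ⟨⟨(g.1 : Mm), mem_sp_iff.2 fun u v => ?_⟩, Subtype.ext (Units.ext rfl)⟩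
    rw [mult_spec hm g, hg, Units.val_one, one_mul]

theorem card_inndiagPSp (hm : 2 ≤ m) : Nat.card (Cfsg.inndiagPSp m F) = Nat.card Spm := by
  have hm0 : 0 < m := by omega
  have hGSp : Nat.card (Cfsg.GSp m F) = Nat.card Fˣ * Nat.card Spm := by
    have h1 := (mult (F := F) hm0).ker.card_mul_index
    have h2 : (mult (F := F) hm0).range = ⊤ :=
      MonoidHom.range_eq_top.2 fun c => ⟨torus c, mult_torus hm0 c⟩
    have h3 : Function.Injective (toGSp : Spm →* Cfsg.GSp m F) := fun s t h => by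
      exact Subtype.ext (congrArg (fun g : Cfsg.GSp m F => (g.1 : Mm)) h)
    rw [Subgroup.index_ker, h2, Subgroup.card_top, ← range_toGSp hm0,
      ← Nat.card_congr (MonoidHom.ofInjective h3).toEquiv] at h1
    rw [← h1, mul_comm]
  have hker : (conjAut : Cfsg.GSp m F →* MulAut PSpm).ker = (scalarGSp : Fˣ →* Cfsg.GSp m F).range := by
    ext g
    rw [MonoidHom.mem_ker, conjAut_eq_one_iff hm]
    constructor
    · rintro ⟨c, hc⟩
      exact ⟨c, Subtype.ext (Units.ext ((coe_scalarGSp c).trans hc.symm))⟩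
    · rintro ⟨c, rfl⟩
      exact ⟨c, coe_scalarGSp c⟩
  have hinj : Function.Injective (scalarGSp : Fˣ →* Cfsg.GSp m F) := fun a b h => by
    have h1 := (coe_scalarGSp (m := m) a).symm.trans ((congrArg (fun g : Cfsg.GSp m F => (g.1 : Mm)) h).trans (coe_scalarGSp b))
    have := congrFun (congrFun h1 (Sum.inl ⟨0, hm0⟩)) (Sum.inl ⟨0, hm0⟩)
    exact Units.ext (by simpa using this)
  have h4 := (conjAut : Cfsg.GSp m F →* MulAut PSpm).ker.card_mul_index
  rw [Subgroup.index_ker, hker, ← Nat.card_congr (MonoidHom.ofInjective hinj).toEquiv, hGSp,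
    ← inndiagPSp_eq_range] at h4
  exact Nat.eq_of_mul_eq_mul_left Nat.card_pos h4

/-- The order of `Aut(PSp_{2m}(q))`, `(m, p) ≠ (2, 2)`. -/
theorem card_mulAut_PSp [Fintype F] {p f : ℕ} [Fact p.Prime] (hF : Fintype.card F = p ^ f) (hm : 2 ≤ m)
    (h4 : m = 2 → p ≠ 2) :
    Nat.card (MulAut PSpm) = Nat.gcd 2 (p ^ f - 1) * f * Nat.card PSpm := by
  classical
  haveI : CharP F p := charP_of_card_eq_prime_pow hF
  let Φ : Cfsg.inndiagPSp m F × (F ≃+* F) → MulAut PSpm := fun x => x.1.1 * fieldAut x.2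
  have hΦ : Function.Bijective Φ := by
    constructor
    · rintro ⟨⟨a, ha⟩, σ⟩ ⟨⟨b, hb⟩, τ⟩ h
      rw [inndiagPSp_eq_range] at ha hb
      obtain ⟨g, rfl⟩ := ha
      obtain ⟨g', rfl⟩ := hb
      have h' : (conjAut (g'⁻¹ * g) * fieldAut (σ * τ⁻¹) : MulAut PSpm) = 1 := by
        rw [map_mul, map_mul, map_inv, map_inv, mul_assoc, ← mul_assoc (conjAut g) (fieldAut σ) (fieldAut τ)⁻¹,
          show conjAut g * fieldAut σ = conjAut g' * fieldAut τ from h, mul_inv_cancel_right, inv_mul_cancel]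
      obtain ⟨hsc, hσ⟩ := eq_one_of_conj_field hm h'
      refine Prod.ext (Subtype.ext ?_) (mul_inv_eq_one.1 hσ)
      have := (conjAut_eq_one_iff hm).2 hsc
      rw [map_mul, map_inv, inv_mul_eq_one] at this
      exact this.symm
    · intro α
      obtain ⟨g, σ, rfl⟩ := exists_decomp hm p h4 α
      exact ⟨(⟨_, conjAut_mem_inndiag g⟩, σ), rfl⟩
  rw [← Nat.card_congr (Equiv.ofBijective Φ hΦ), Nat.card_prod, card_inndiagPSp hm,
    AutPSL.card_fieldAuts hF, card_sp rfl, ← card_psp rfl (show 1 ≤ m by omega), Nat.card_eq_fintype_card (α := F),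
    hF]
  ring

end Cfsg.Agent.Lib.AutPSp
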