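import Cfsg.Agent.Lib.AutPSp.Basic

/-!
Symplectic transvections in `PSp_{2m}(q)` are characterised by group-theoretic properties: they are
centralised by a Sylow `p`-subgroup (and, for `p = 2`, never generate a non-abelian 2-group with a conjugate).
-/

set_option autoImplicit false

namespace Cfsg.Agent.Lib.AutPSp

open Matrix Cfsg.Agent.Lib.Symplectic

variable {m : ℕ} {F : Type*} [Field F]

local notation "ℓ" => (Fin m ⊕ Fin m)
local notation "Vm" => (Fin m ⊕ Fin m → F)
local notation "Mm" => Matrix (Fin m ⊕ Fin m) (Fin m ⊕ Fin m) F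
local notation "Spm" => Matrix.symplecticGroup (Fin m) F
local notation "PSpm" => Cfsg.PSp m F
local notation "sB" => stdForm m F

theorem exists_perp_two (hm : 2 ≤ m) (v w : Vm) : ∃ x : Vm, x ≠ 0 ∧ sB x v = 0 ∧ sB x w = 0 := by
  let f : Vm →ₗ[F] F × F := ((sB).flip v).prod ((sB).flip w)
  have hf : LinearMap.ker f ≠ ⊥ := by
    intro h
    have h1 := LinearMap.finrank_le_finrank_of_injective (f := f) (LinearMap.ker_eq_bot.1 h)
    rw [finrank_std, Module.finrank_prod, Module.finrank_self] at h1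
    omega
  obtain ⟨x, hx, hx0⟩ := Submodule.exists_mem_ne_zero_of_ne_bot hf
  exact ⟨x, hx0, (Prod.ext_iff.1 hx).1, (Prod.ext_iff.1 hx).2⟩

theorem exists_not_perp {v : Vm} (hv : v ≠ 0) : ∃ x : Vm, sB x v ≠ 0 := by
  obtain ⟨x, hx⟩ := (isSympForm_stdForm m F).exists_eq_one hv
  exact ⟨x, by rw [(isSympForm_stdForm m F).swap x v, hx]; exact neg_ne_zero.2 one_ne_zero⟩

theorem tvS_eq_of_tr_eq (hm : 2 ≤ m) {v w : Vm} {c d : F} (h : tr v c = tr w d) : tvS v c = tvS w d := by
  rcases (mk_eq_mk_iff _ _).1 h with h' | h'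
  · exact Subtype.ext h'.symm
  · obtain ⟨x, hx0, hxv, hxw⟩ := exists_perp_two hm v w
    have h1 := congrArg (fun A : Mm => A *ᵥ x) h'
    simp only [Matrix.neg_mulVec, tvS_mulVec, hxv, hxw, mul_zero, zero_smul, add_zero] at h1
    obtain ⟨i, hi⟩ : ∃ i, x i ≠ 0 := by
      by_contra hcon; push Not at hcon; exact hx0 (funext hcon)
    have h2 : (2 : F) = 0 := by
      have := congrFun h1 i
      rw [Pi.neg_apply] at this
      exact (mul_eq_zero.1 (by linear_combination this : (2 : F) * x i = 0)).resolve_right hi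
    refine Subtype.ext (h'.trans ?_).symm
    ext a b
    show -(tvS v c : Mm) a b = (tvS v c : Mm) a b
    linear_combination -((tvS v c : Mm) a b) * h2

theorem tr_zero (v : Vm) : tr v (0 : F) = 1 :=
  (congrArg _ (sp_ext fun x => by simp [tvS_mulVec])).trans (QuotientGroup.mk_one _)

theorem tr_add (v : Vm) (c d : F) : tr v (c + d) = tr v c * tr v d := by
  rw [tr, tr, tr, ← QuotientGroup.mk_mul]
  congr 1
  refine sp_ext fun x => ?_
  rw [Submonoid.coe_mul, ← Matrix.mulVec_mulVec]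
  simp only [tvS_mulVec, map_add, map_smul, LinearMap.add_apply, LinearMap.smul_apply,
    (isSympForm_stdForm m F).self, smul_zero, add_zero, smul_eq_mul]
  rw [add_assoc, ← add_smul]
  congr 2
  ring

theorem tr_ne_one (hm : 2 ≤ m) {v : Vm} (hv : v ≠ 0) {c : F} (hc : c ≠ 0) : tr v c ≠ 1 := by
  intro h
  have h1 := tvS_eq_of_tr_eq hm (h.trans (tr_zero v).symm)
  obtain ⟨x, hx⟩ := exists_not_perp hv
  have h2 := congrArg (fun A : Spm => (A : Mm) *ᵥ x) h1
  simp [tvS_mulVec, hx, hc, hv] at h2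

theorem par_of_tr_eq (hm : 2 ≤ m) {v w : Vm} {c d : F} (hv : v ≠ 0) (hc : c ≠ 0)
    (h : tr v c = tr w d) : ∃ a : F, a ≠ 0 ∧ w = a • v := by
  obtain ⟨x, hx⟩ := exists_not_perp hv
  have h2 := congrArg (fun A : Spm => (A : Mm) *ᵥ x) (tvS_eq_of_tr_eq hm h)
  simp only [tvS_mulVec, add_right_inj] at h2
  have hne : d * sB x w ≠ 0 := fun h0 => smul_ne_zero (mul_ne_zero hc hx) hv (by rw [h2, h0, zero_smul])
  exact ⟨(d * sB x w)⁻¹ * (c * sB x v), mul_ne_zero (inv_ne_zero hne) (mul_ne_zero hc hx),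
    by rw [← smul_smul, h2, smul_smul, inv_mul_cancel₀ hne, one_smul]⟩

theorem commute_tr_iff (hm : 2 ≤ m) {v w : Vm} {c d : F} (hv : v ≠ 0) (hw : w ≠ 0) (hc : c ≠ 0)
    (hd : d ≠ 0) : Commute (tr v c) (tr w d) ↔ sB v w = 0 := by
  have hconj : tr v c * tr w d * (tr v c)⁻¹ = tr (w + (c * sB w v) • v) d := by
    rw [← tvS_mulVec]; exact conj_tr (tvS v c) w d
  constructor
  · intro h
    rw [h.eq, mul_inv_cancel_right] at hconj
    obtain ⟨a, -, ha⟩ := par_of_tr_eq hm hw hd hconj
    rw [(isSympForm_stdForm m F).comm_eq_zero]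
    by_contra h0
    have hk : c * sB w v ≠ 0 := mul_ne_zero hc h0
    have h1 : v = ((c * sB w v)⁻¹ * (a - 1)) • w := by
      have : (c * sB w v) • v = (a - 1) • w := by rw [sub_smul, one_smul, ← ha, add_sub_cancel_left]
      rw [← smul_smul, ← this, smul_smul, inv_mul_cancel₀ hk, one_smul]
    exact h0 (by rw [h1, map_smul, (isSympForm_stdForm m F).self, smul_zero])
  · intro h
    rw [(isSympForm_stdForm m F).comm_eq_zero] at h
    rw [h, mul_zero, zero_smul, add_zero] at hconj
    exact mul_inv_eq_iff_eq_mul.1 hconj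

/-! ### Nilpotency from a ranking of the indices -/

/-- `M` is strictly upper triangular for the ranking `r`. -/
def Strict (r : ℓ → ℕ) (M : Mm) : Prop := ∀ i j, r j ≤ r i → M i j = 0

theorem Strict.pow {r : ℓ → ℕ} {M : Mm} (h : Strict r M) : ∀ (k : ℕ) (i j : ℓ),
    r j < r i + k → (M ^ k) i j = 0
  | 0, i, j, hij => by
    rw [pow_zero]; exact Matrix.one_apply_ne fun e => by rw [e] at hij; omega
  | k + 1, i, j, hij => by
    rw [pow_succ, Matrix.mul_apply]
    refine Finset.sum_eq_zero fun l _ => ?_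
    by_cases hl : r l < r i + k
    · rw [h.pow k i l hl, zero_mul]
    · rw [h l j (by omega), mul_zero]

theorem Strict.isNilpotent {r : ℓ → ℕ} {M : Mm} (h : Strict r M) : IsNilpotent M :=
  ⟨Finset.univ.sup r + 1, Matrix.ext fun i j => h.pow _ i j (by
    have := Finset.le_sup (f := r) (Finset.mem_univ j); omega)⟩

theorem Strict.comb {r : ℓ → ℕ} {M N : Mm} (hM : Strict r M) (hN : Strict r N) :
    Strict r (M + N + M * N) := by
  intro i j hij
  have h1 : (M * N) i j = 0 := by
    rw [Matrix.mul_apply]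
    refine Finset.sum_eq_zero fun l _ => ?_
    by_cases hl : r l ≤ r i
    · rw [hM i l hl, zero_mul]
    · rw [hN l j (by omega), mul_zero]
  simp [hM i j hij, hN i j hij, h1]

theorem exists_pow_eq_one (p : ℕ) [Fact p.Prime] [CharP F p] [Nonempty ℓ] {A : Mm}
    (h : IsNilpotent (A - 1)) : ∃ k : ℕ, A ^ p ^ k = 1 := by
  obtain ⟨N, hN⟩ := h
  refine ⟨N, sub_eq_zero.1 ?_⟩
  have h1 := sub_pow_char_pow_of_commute (p := p) (n := N) (Commute.one_right A)
  rw [one_pow] at h1
  rw [← h1]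
  exact pow_eq_zero_of_le (Nat.lt_pow_self (Fact.out : p.Prime).one_lt).le hN

/-- The group of symplectic matrices that are upper unitriangular for the ranking `r`. -/
def uniR [Finite F] (r : ℓ → ℕ) : Subgroup Spm :=
  Subgroup.closure {s : Spm | Strict r ((s : Mm) - 1)}

theorem mem_uniR [Finite F] {r : ℓ → ℕ} {s : Spm} (hs : s ∈ uniR r) : Strict r ((s : Mm) - 1) := by
  rw [uniR, ← Subgroup.mem_toSubmonoid, Subgroup.closure_toSubmonoid_of_finite] at hs
  induction hs using Submonoid.closure_induction with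
  | mem x hx => exact hx
  | one => intro i j _; simp
  | mul x y _ _ hx hy =>
    have : ((x * y : Spm) : Mm) - 1 = ((x : Mm) - 1) + ((y : Mm) - 1) + ((x : Mm) - 1) * ((y : Mm) - 1) := by
      rw [Submonoid.coe_mul]; noncomm_ring
    rw [this]; exact hx.comb hy

theorem isPGroup_uniR [Finite F] (p : ℕ) [Fact p.Prime] [CharP F p] [Nonempty ℓ] (r : ℓ → ℕ) :
    IsPGroup p (uniR (F := F) r) := fun s => by
  obtain ⟨k, hk⟩ := exists_pow_eq_one p (mem_uniR s.2).isNilpotent
  exact ⟨k, Subtype.ext (Subtype.ext (by simpa using hk))⟩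

theorem sub_one_block (A B C D : Matrix (Fin m) (Fin m) F) :
    Matrix.fromBlocks A B C D - 1 = Matrix.fromBlocks (A - 1) B C (D - 1) := by
  ext i j
  rcases i with i | i <;> rcases j with j | j <;> simp [Matrix.one_apply]

theorem siegel_mem {S : Matrix (Fin m) (Fin m) F} (hS : Sᵀ = S) :
    Matrix.fromBlocks 1 S 0 1 ∈ Spm := by
  rw [SymplecticGroup.mem_iff, Matrix.J, Matrix.fromBlocks_transpose, Matrix.fromBlocks_multiply,
    Matrix.fromBlocks_multiply, hS]
  simp

theorem levi_mem {i j : Fin m} (hij : i ≠ j) :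
    Matrix.fromBlocks (1 + Matrix.single i j 1) 0 0 (1 - Matrix.single j i 1) ∈ Spm := by
  have h1 : (Matrix.single i j (1 : F)) * Matrix.single i j 1 = 0 :=
    Matrix.single_mul_single_of_ne _ _ _ _ hij.symm _
  have h2 : (Matrix.single j i (1 : F)) * Matrix.single j i 1 = 0 :=
    Matrix.single_mul_single_of_ne _ _ _ _ hij _
  rw [SymplecticGroup.mem_iff, Matrix.J, Matrix.fromBlocks_transpose, Matrix.fromBlocks_multiply,
    Matrix.fromBlocks_multiply]
  simp [Matrix.transpose_add, Matrix.transpose_sub, Matrix.mul_sub, Matrix.add_mul, Matrix.sub_mul,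
    Matrix.mul_add, h1, h2]

/-- The ranking of the standard Borel. -/
def rk (m : ℕ) : Fin m ⊕ Fin m → ℕ := Sum.elim (fun i => (i : ℕ)) (fun i => 2 * m - i)

/-- A unipotent symplectic matrix commuting with the standard unipotent group up to sign is a root element,
or (`p = 2`) lies in the product of the highest long and short root groups. -/
theorem shape_of_commute [Finite F] (hm : 2 ≤ m) {X : Spm} {p : ℕ} [Fact p.Prime] [CharP F p] {k : ℕ}
    (hX : X ^ p ^ k = 1) (hcomm : ∀ u ∈ uniR (F := F) (rk m), Commute X u) :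
    ∃ a b : F, (p ≠ 2 → b = 0) ∧ (X : Mm) =
      Matrix.fromBlocks 1 (a • Matrix.single ⟨0, by omega⟩ ⟨0, by omega⟩ 1 +
        b • (Matrix.single ⟨0, by omega⟩ ⟨1, hm⟩ 1 + Matrix.single ⟨1, hm⟩ ⟨0, by omega⟩ 1)) 0 1 := by
  classical
  haveI : Nonempty ℓ := ⟨Sum.inl ⟨0, by omega⟩⟩
  set A := (X : Mm).toBlocks₁₁
  set B := (X : Mm).toBlocks₁₂
  set C := (X : Mm).toBlocks₂₁
  set D := (X : Mm).toBlocks₂₂
  have hXb : (X : Mm) = Matrix.fromBlocks A B C D := (Matrix.fromBlocks_toBlocks _).symm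
  have hS : ∀ S : Matrix (Fin m) (Fin m) F, Sᵀ = S → S * C = 0 ∧ A * S = S * D := by
    intro S hs
    have hu : (⟨_, siegel_mem hs⟩ : Spm) ∈ uniR (F := F) (rk m) := Subgroup.subset_closure (by
      intro i j hij
      show (Matrix.fromBlocks 1 S 0 1 - 1 : Mm) i j = 0
      rw [sub_one_block]
      rcases i with i | i <;> rcases j with j | j <;> simp
      simp [rk] at hij
      omega)
    have h1 := congrArg (fun s : Spm => (s : Mm)) (hcomm _ hu).eq
    simp only [Submonoid.coe_mul] at h1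
    rw [hXb, Matrix.fromBlocks_multiply, Matrix.fromBlocks_multiply, Matrix.fromBlocks_inj] at h1
    obtain ⟨e11, e12, -, -⟩ := h1
    simp at e11 e12
    exact ⟨e11, add_right_cancel (e12.trans (add_comm B (S * D)))⟩
  obtain ⟨hC, hAD⟩ := hS 1 Matrix.transpose_one
  rw [Matrix.one_mul] at hC hAD
  rw [Matrix.mul_one] at hAD
  have hdiag : ∀ i j, i ≠ j → A i j = 0 ∧ A i i = A j j := by
    intro i j hij
    constructor
    · have h := (hS (Matrix.single j j 1) (Matrix.transpose_single ..)).2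
      rw [← hAD] at h
      have := congrFun (congrFun h i) j
      simpa [hij] using this
    · have h := (hS (Matrix.single i j 1 + Matrix.single j i 1) (by
        rw [Matrix.transpose_add, Matrix.transpose_single, Matrix.transpose_single, add_comm])).2
      rw [← hAD] at h
      have := congrFun (congrFun h i) j
      simpa [Matrix.add_mul, Matrix.mul_add, hij, hij.symm] using this
  set a₀ := A ⟨0, by omega⟩ ⟨0, by omega⟩
  have hA : A = a₀ • 1 := by
    ext i j
    by_cases hij : i = j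
    · subst hij
      by_cases h0 : i = ⟨0, by omega⟩
      · simp [h0, a₀]
      · simp [(hdiag i ⟨0, by omega⟩ h0).2, a₀]
    · simp [(hdiag i j hij).1, hij]
  -- `a₀ = 1`
  have hpow : ∀ n : ℕ, ∃ B', (X : Mm) ^ n = Matrix.fromBlocks (a₀ ^ n • 1) B' 0 (a₀ ^ n • 1) := by
    intro n
    induction n with
    | zero => exact ⟨0, by simp [Matrix.fromBlocks_one]⟩
    | succ n ih =>
      obtain ⟨B', hB'⟩ := ih
      refine ⟨a₀ ^ n • B + a₀ • B', ?_⟩
      rw [pow_succ, hB', hXb, ← hAD, hC, hA, Matrix.fromBlocks_multiply]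
      simp [smul_smul, ← pow_succ']
  have ha₀ : a₀ = 1 := by
    obtain ⟨B', hB'⟩ := hpow (p ^ k)
    have h1 : (X : Mm) ^ p ^ k = 1 := by rw [← SubmonoidClass.coe_pow, hX, Submonoid.coe_one]
    rw [h1, ← Matrix.fromBlocks_one, Matrix.fromBlocks_inj] at hB'
    have := congrFun (congrFun hB'.1 ⟨0, by omega⟩) ⟨0, by omega⟩
    simp at this
    have hfr : a₀ ^ p ^ k = 1 ^ p ^ k := by rw [one_pow, ← this]
    exact iterateFrobenius_inj F p k (by simpa [iterateFrobenius_def] using hfr)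
  rw [ha₀, one_smul] at hA
  -- the shape of `B`
  have hBsym : Bᵀ = B := by
    have h := SymplecticGroup.mem_iff.1 X.2
    rw [hXb, ← hAD, hC, hA, Matrix.J, Matrix.fromBlocks_transpose, Matrix.fromBlocks_multiply,
      Matrix.fromBlocks_multiply, Matrix.fromBlocks_inj] at h
    have h11 := h.1
    simp at h11
    exact (neg_add_eq_zero.1 ((add_comm _ _).trans h11)).symm.symm
  have hE : ∀ i j : Fin m, i < j → Matrix.single i j 1 * B + B * Matrix.single j i 1 = 0 := by
    intro i j hij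
    have hu : (⟨_, levi_mem hij.ne⟩ : Spm) ∈ uniR (F := F) (rk m) := Subgroup.subset_closure (by
      intro a b hab
      show (Matrix.fromBlocks (1 + Matrix.single i j 1) 0 0 (1 - Matrix.single j i 1) - 1 : Mm) a b = 0
      rw [sub_one_block]
      have := i.isLt
      have := j.isLt
      rcases a with a | a <;> rcases b with b | b <;> simp [Matrix.single_apply] <;>
        · rintro rfl rfl
          simp [rk] at hab
          omega)
    have h1 := congrArg (fun s : Spm => (s : Mm)) (hcomm _ hu).eq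
    simp only [Submonoid.coe_mul] at h1
    rw [hXb, ← hAD, hC, hA, Matrix.fromBlocks_multiply, Matrix.fromBlocks_multiply, Matrix.fromBlocks_inj] at h1
    have e12 := h1.2.1
    simp [Matrix.add_mul, Matrix.mul_sub] at e12
    linear_combination (norm := abel) (-1 : ℤ) • e12
  have hent : ∀ i j : Fin m, i < j → (∀ b, b ≠ i → B j b = 0) ∧ 2 * B i j = 0 := by
    intro i j hij
    refine ⟨fun b hb => ?_, ?_⟩
    · have := congrFun (congrFun (hE i j hij) i) b
      simpa [hb] using this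
    · have h := congrFun (congrFun (hE i j hij) i) i
      have hsym := congrFun (congrFun hBsym i) j
      simp at h hsym
      linear_combination h - hsym
  refine ⟨B ⟨0, by omega⟩ ⟨0, by omega⟩, B ⟨0, by omega⟩ ⟨1, hm⟩, fun hp => ?_, ?_⟩
  · have h2 := (hent ⟨0, by omega⟩ ⟨1, hm⟩ (Fin.mk_lt_mk.2 one_pos)).2
    refine (mul_eq_zero.1 h2).resolve_left fun h => hp ?_
    exact ((Nat.prime_dvd_prime_iff_eq (Fact.out : p.Prime) Nat.prime_two).1
      ((CharP.cast_eq_zero_iff F p 2).1 (by simpa using h)))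
  · rw [hXb, ← hAD, hC, hA]
    congr 1
    ext j b
    have hs : ∀ a c : Fin m, B a c = B c a := fun a c => congrFun (congrFun hBsym c) a
    by_cases hj0 : j = ⟨0, by omega⟩
    · subst hj0
      by_cases hb0 : b = ⟨0, by omega⟩
      · subst hb0; simp
      · by_cases hb1 : b = ⟨1, hm⟩
        · subst hb1; simp
        · rw [hs, (hent ⟨1, hm⟩ b (by
            have h0 : b.val ≠ 0 := fun h => hb0 (Fin.ext h)
            have h1 : b.val ≠ 1 := fun h => hb1 (Fin.ext h)
            rw [Fin.lt_def]; simp only; omega)).1 ⟨0, by omega⟩ (by simp)]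
          simp [Ne.symm hb0, Ne.symm hb1]
    · have hj : (⟨0, by omega⟩ : Fin m) < j := by
        have h0 : j.val ≠ 0 := fun h => hj0 (Fin.ext h)
        rw [Fin.lt_def]; simp only; omega
      by_cases hb0 : b = ⟨0, by omega⟩
      · subst hb0
        by_cases hj1 : j = ⟨1, hm⟩
        · subst hj1; rw [hs]; simp
        · rw [(hent ⟨1, hm⟩ j (by
            have h0 : j.val ≠ 0 := fun h => hj0 (Fin.ext h)
            have h1 : j.val ≠ 1 := fun h => hj1 (Fin.ext h)
            rw [Fin.lt_def]; simp only; omega)).1 ⟨0, by omega⟩ (by simp)]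
          simp [Ne.symm hj0, Ne.symm hj1]
      · rw [(hent _ j hj).1 b hb0]
        simp [Ne.symm hj0, Ne.symm hb0]

theorem fromBlocks_single_eq_tvS (i : Fin m) (a : F) :
    Matrix.fromBlocks 1 (a • Matrix.single i i 1) 0 1 = (tvS (Pi.single (Sum.inl i) 1) a : Mm) := by
  refine Matrix.mulVec_injective (funext fun x => ?_)
  show _ *ᵥ x = _ *ᵥ x
  rw [tvS_mulVec]
  have hb : sB x (Pi.single (Sum.inl i) 1) = x (Sum.inr i) := by
    simp [stdForm_apply, Pi.single_apply]
  rw [hb]
  funext j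
  rcases j with j | j <;>
    simp [Matrix.fromBlocks_mulVec, Matrix.smul_mulVec, Pi.single_apply, Matrix.mulVec, dotProduct,
      Matrix.single_apply, Matrix.one_apply, ite_and] <;>
    by_cases h : j = i <;> simp [h, Ne.symm, eq_comm]

/-- For `p = 2`: no conjugate of `x` generates a non-abelian 2-group with it. -/
def Good {G : Type*} [Group G] (x : G) : Prop :=
  ∀ (g : G) (k : ℕ), (x * (g * x * g⁻¹)) ^ 2 ^ k = 1 → Commute x (g * x * g⁻¹)

theorem good_tr [CharP F 2] (hm : 2 ≤ m) {v : Vm} (hv : v ≠ 0) {c : F} (hc : c ≠ 0) : Good (tr v c) := by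
  intro g k hk
  haveI : Nonempty ℓ := ⟨Sum.inl ⟨0, by omega⟩⟩
  obtain ⟨s, rfl⟩ := QuotientGroup.mk_surjective g
  rw [conj_tr] at hk ⊢
  set w := (s : Mm) *ᵥ v
  have hw : w ≠ 0 := fun h => hv (by
    have := congrArg (fun y => ((s⁻¹ : Spm) : Mm) *ᵥ y) h
    simpa [w, Matrix.mulVec_mulVec, ← Submonoid.coe_mul] using this)
  refine (commute_tr_iff hm hv hw hc hc).2 ?_
  by_contra h0
  have hone : ((tvS v c : Mm) * (tvS w c : Mm)) ^ 2 ^ k = 1 := by
    rw [tr, tr, ← QuotientGroup.mk_mul, ← QuotientGroup.mk_pow, eq_comm, ← QuotientGroup.mk_one,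
      mk_eq_mk_iff] at hk
    rw [SubmonoidClass.coe_pow, Submonoid.coe_mul, Submonoid.coe_one, CharTwo.neg_eq, or_self] at hk
    exact hk
  have hnil : IsNilpotent ((tvS v c : Mm) * (tvS w c : Mm) - 1) :=
    ⟨2 ^ k, by rw [sub_pow_char_pow_of_commute (p := 2) (n := k) (Commute.one_right _), hone, one_pow, sub_self]⟩
  have htr := (Matrix.isNilpotent_trace_of_isNilpotent hnil).eq_zero
  have hval : ((tvS v c : Mm) * (tvS w c : Mm) - 1).trace = c * c * (sB w v * sB v w) := by
    have hsd : ∀ a b : Vm, a ⬝ᵥ (J (Fin m) F *ᵥ b) = sB a b := fun a b => (stdForm_eq_dot a b).symm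
    show ((1 + c • Matrix.vecMulVec v (J (Fin m) F *ᵥ v)) * (1 + c • Matrix.vecMulVec w (J (Fin m) F *ᵥ w)) - 1).trace = _
    rw [Matrix.add_mul, Matrix.one_mul, Matrix.mul_add, Matrix.mul_one, Matrix.smul_mul, Matrix.mul_smul,
      Matrix.vecMulVec_mul_vecMulVec]
    simp only [Matrix.trace_add, Matrix.trace_sub, Matrix.trace_smul, Matrix.trace_vecMulVec, smul_eq_mul,
      dotProduct_smul, hsd, (isSympForm_stdForm m F).self, dotProduct_comm (J (Fin m) F *ᵥ v) w]
    ring
  rw [hval, mul_eq_zero] at htr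
  refine htr.elim (mul_ne_zero hc hc) (mul_ne_zero ?_ h0)
  rwa [Ne, (isSympForm_stdForm m F).comm_eq_zero]

theorem not_good_bad [CharP F 2] (hm : 3 ≤ m) {X : Spm} {a b : F} (hb : b ≠ 0)
    (hX : (X : Mm) = Matrix.fromBlocks 1 (a • Matrix.single ⟨0, by omega⟩ ⟨0, by omega⟩ 1 +
        b • (Matrix.single ⟨0, by omega⟩ ⟨1, by omega⟩ 1 + Matrix.single ⟨1, by omega⟩ ⟨0, by omega⟩ 1)) 0 1) :
    ¬ Good (QuotientGroup.mk X : PSpm) := by
  classical
  haveI : Nonempty ℓ := ⟨Sum.inl ⟨0, by omega⟩⟩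
  set o : Fin m := ⟨0, by omega⟩
  set e : Fin m := ⟨1, by omega⟩
  set t : Fin m := ⟨2, by omega⟩
  have hoe : o ≠ e := by simp [o, e]
  have hot : o ≠ t := by simp [o, t]
  have het : e ≠ t := by simp [e, t]
  let π : ℓ ≃ ℓ := (Equiv.swap (Sum.inl o) (Sum.inl t)).trans
    ((Equiv.swap (Sum.inr o) (Sum.inr t)).trans (Equiv.swap (Sum.inl e) (Sum.inr e)))
  have p1 : π (Sum.inl o) = Sum.inl t := by simp [π, Equiv.swap_apply_def, hoe, hot, het.symm, hot.symm]
  have p2 : π (Sum.inl t) = Sum.inl o := by simp [π, Equiv.swap_apply_def, hoe, hot, het.symm, hot.symm]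
  have p3 : π (Sum.inr o) = Sum.inr t := by simp [π, Equiv.swap_apply_def, hoe, hot, het.symm, hot.symm]
  have p4 : π (Sum.inr t) = Sum.inr o := by simp [π, Equiv.swap_apply_def, hoe, hot, het.symm, hot.symm]
  have p5 : π (Sum.inl e) = Sum.inr e := by simp [π, Equiv.swap_apply_def, hoe.symm, het]
  have p6 : π (Sum.inr e) = Sum.inl e := by simp [π, Equiv.swap_apply_def, hoe.symm, het]
  have p7 : ∀ i, i ≠ o → i ≠ e → i ≠ t → π (Sum.inl i) = Sum.inl i ∧ π (Sum.inr i) = Sum.inr i := by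
    intro i h1 h2 h3
    simp [π, Equiv.swap_apply_def, h1, h2, h3]
  have hinv : ∀ x, π (π x) = x := by
    rintro (i | i) <;> by_cases h1 : i = o <;> by_cases h2 : i = e <;> by_cases h3 : i = t <;>
      simp_all
  have hJ : (J (Fin m) F).submatrix π π = J (Fin m) F := by
    ext i j
    have key : ∀ i j, (J (Fin m) F) i j = if (i = j.elim Sum.inr Sum.inl) then 1 else 0 := by
      rintro (i | i) (j | j) <;> simp [Matrix.J, Matrix.one_apply, CharTwo.neg_eq]
    have hπ : ∀ j : ℓ, π (j.elim Sum.inr Sum.inl) = (π j).elim Sum.inr Sum.inl := by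
      rintro (j | j) <;> by_cases h1 : j = o <;> by_cases h2 : j = e <;> by_cases h3 : j = t <;>
        simp_all
    rw [Matrix.submatrix_apply, key, key, ← hπ]
    simp
  let sM : Mm := (1 : Mm).submatrix π id
  have hs : sM ∈ Spm := by
    rw [SymplecticGroup.mem_iff]
    show (1 : Mm).submatrix π id * J (Fin m) F * ((1 : Mm).submatrix π id)ᵀ = _
    rw [Matrix.transpose_submatrix, Matrix.transpose_one]
    conv_lhs => arg 1; arg 2; rw [← Matrix.submatrix_id_id (J (Fin m) F)]
    rw [← Matrix.submatrix_mul _ _ _ _ _ Function.bijective_id, Matrix.one_mul,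
      ← Matrix.submatrix_mul _ _ _ _ _ Function.bijective_id, Matrix.mul_one, hJ]
  let s : Spm := ⟨sM, hs⟩
  intro hgood
  set W : Spm := s * X * s⁻¹
  have hWs : (W : Mm) * sM = sM * (X : Mm) := by
    show (W : Mm) * (s : Mm) = (s : Mm) * (X : Mm)
    rw [← Submonoid.coe_mul, ← Submonoid.coe_mul, inv_mul_cancel_right]
  set N : Mm := Matrix.fromBlocks 0 (a • Matrix.single o o 1 + b • (Matrix.single o e 1 + Matrix.single e o 1)) 0 0
    with hNdef
  have hXN : (X : Mm) = 1 + N := by rw [hX, hNdef, ← Matrix.fromBlocks_one, Matrix.fromBlocks_add]; simp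
  have hW : (W : Mm) = 1 + N.submatrix π π := by
    have hsm : sM * (X : Mm) = (X : Mm).submatrix π id := by
      show (1 : Mm).submatrix π id * (X : Mm) = _
      conv_lhs => arg 2; rw [← Matrix.submatrix_id_id (X : Mm)]
      rw [← Matrix.submatrix_mul _ _ _ _ _ Function.bijective_id, Matrix.one_mul]
    have hmm : (X : Mm).submatrix π π * sM = (X : Mm).submatrix π id := by
      show (X : Mm).submatrix π π * (1 : Mm).submatrix π id = _
      rw [← Matrix.submatrix_mul _ _ _ _ _ π.bijective, Matrix.mul_one]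
    have hsinv : sM * ((s⁻¹ : Spm) : Mm) = 1 := by
      show (s : Mm) * _ = _
      rw [← Submonoid.coe_mul, mul_inv_cancel, Submonoid.coe_one]
    have h1 : (W : Mm) = (X : Mm).submatrix π π := by
      have := congrArg (· * ((s⁻¹ : Spm) : Mm)) (hWs.trans (hsm.trans hmm.symm))
      simpa [Matrix.mul_assoc, hsinv] using this
    rw [h1, hXN]
    ext i j
    simp [Matrix.one_apply]
  have hNe : ∀ i j, N i j ≠ 0 → (i = Sum.inl o ∧ j = Sum.inr o) ∨ (i = Sum.inl o ∧ j = Sum.inr e) ∨
      (i = Sum.inl e ∧ j = Sum.inr o) := by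
    rintro (i | i) (j | j) <;> simp [hNdef, Matrix.single_apply]
    intro h
    by_contra hcon
    push Not at hcon
    rw [if_neg (fun h' => hcon.1 h'.1.symm h'.2.symm), if_neg (fun h' => hcon.2.1 h'.1.symm h'.2.symm),
      if_neg (fun h' => hcon.2.2 h'.1.symm h'.2.symm)] at h
    simp at h
  let r : ℓ → ℕ := Sum.elim (fun i => if i = e then 1 else 0) (fun i => if i = e then 1 else 2)
  have hN : Strict r N := by
    intro i j hij
    by_contra h
    rcases hNe i j h with ⟨rfl, rfl⟩ | ⟨rfl, rfl⟩ | ⟨rfl, rfl⟩ <;> simp [r, hoe] at hij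
  have hM : Strict r (N.submatrix π π) := by
    intro i j hij
    by_contra h
    rw [← hinv i, ← hinv j] at hij
    rcases hNe _ _ h with ⟨hi, hj⟩ | ⟨hi, hj⟩ | ⟨hi, hj⟩ <;> rw [hi, hj] at hij <;>
      simp [r, p1, p2, p3, p4, p5, p6, hoe, het.symm] at hij
  have hprod : ((X : Mm) * (W : Mm)) - 1 = N + N.submatrix π π + N * N.submatrix π π := by
    rw [hXN, hW]; noncomm_ring
  obtain ⟨k, hk⟩ := exists_pow_eq_one (F := F) 2 (A := (X : Mm) * (W : Mm)) (hprod ▸ (hN.comb hM).isNilpotent)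
  have hc := hgood (QuotientGroup.mk s) k (by
    rw [← QuotientGroup.mk_inv, ← QuotientGroup.mk_mul, ← QuotientGroup.mk_mul, ← QuotientGroup.mk_mul,
      ← QuotientGroup.mk_pow, show (X * (s * X * s⁻¹)) ^ 2 ^ k = 1 from Subtype.ext (by
        rw [SubmonoidClass.coe_pow, Submonoid.coe_mul]; exact hk)]
    rfl)
  have hc' : (X : Mm) * (W : Mm) = (W : Mm) * (X : Mm) := by
    have h1 : (QuotientGroup.mk (W * X) : PSpm) = QuotientGroup.mk (X * W) := by
      rw [QuotientGroup.mk_mul, QuotientGroup.mk_mul]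
      exact hc.eq.symm
    rw [mk_eq_mk_iff, Submonoid.coe_mul, Submonoid.coe_mul, CharTwo.neg_eq, or_self] at h1
    exact h1
  rw [hXN, hW] at hc'
  have hcm : N * N.submatrix π π = N.submatrix π π * N := by
    linear_combination (norm := noncomm_ring) hc'
  have h := congrFun (congrFun hcm (Sum.inl o)) (Sum.inr t)
  rw [Matrix.mul_apply, Matrix.mul_apply, Finset.sum_eq_single (Sum.inr e)] at h
  · rw [Finset.sum_eq_zero fun l _ => ?_] at h
    · simp [Matrix.submatrix_apply, p6, p4, hNdef, hoe, hoe.symm] at h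
      exact hb h
    · by_contra hne
      rcases hNe l _ (right_ne_zero_of_mul hne) with ⟨-, h'⟩ | ⟨-, h'⟩ | ⟨-, h'⟩ <;>
        simp [hot.symm, het.symm] at h'
  · intro l _ hl
    by_contra hne
    rcases hNe _ l (left_ne_zero_of_mul hne) with ⟨-, rfl⟩ | ⟨-, rfl⟩ | ⟨h', -⟩
    · have := right_ne_zero_of_mul hne
      rw [Matrix.submatrix_apply, p3, p4] at this
      exact this (by simp [hNdef])
    · exact hl rfl
    · simp [hoe] at h'
  · simp

/-- The group-theoretic property characterising transvections. -/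
def RootLike (p : ℕ) (x : PSpm) : Prop :=
  x ≠ 1 ∧ (∃ k : ℕ, x ^ p ^ k = 1) ∧ (∃ P : Sylow p PSpm, ∀ y ∈ P, Commute x y) ∧ (p = 2 → Good x)

theorem good_map {G : Type*} [Group G] (α : MulAut G) {x : G} (h : Good x) : Good (α x) := by
  intro g k hk
  obtain ⟨g', rfl⟩ := α.surjective g
  rw [← map_inv, ← map_mul, ← map_mul] at hk ⊢
  rw [← map_mul, ← map_pow, EmbeddingLike.map_eq_one_iff] at hk
  exact (h g' k hk).map α

theorem rootLike_map [Finite F] {p : ℕ} [Fact p.Prime] (α : MulAut PSpm) {x : PSpm} (h : RootLike p x) :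
    RootLike p (α x) := by
  obtain ⟨h1, ⟨k, hk⟩, ⟨P, hP⟩, h4⟩ := h
  refine ⟨fun e => h1 (α.injective (e.trans (map_one α).symm)), ⟨k, by rw [← map_pow, hk, map_one]⟩, ?_,
    fun hp => good_map α (h4 hp)⟩
  refine ⟨P.comapOfInjective α.symm.toMonoidHom α.symm.injective
    (fun z _ => ⟨α z, α.symm_apply_apply z⟩), fun y hy => ?_⟩
  have h2 := (hP (α.symm y) hy).map α
  rwa [α.apply_symm_apply] at h2

theorem rootLike_tr [Finite F] (p : ℕ) [Fact p.Prime] [CharP F p] (hm : 2 ≤ m) {v : Vm} (hv : v ≠ 0)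
    {c : F} (hc : c ≠ 0) : RootLike p (tr v c) := by
  classical
  have hmul : ∀ j : ℕ, (tr v c) ^ j = tr v ((j : F) * c) := by
    intro j
    induction j with
    | zero => simp [tr_zero]
    | succ j ih => rw [pow_succ, ih, ← tr_add, Nat.cast_succ, add_mul, one_mul]
  refine ⟨tr_ne_one hm hv hc, ⟨1, by rw [pow_one, hmul, CharP.cast_eq_zero, zero_mul, tr_zero]⟩, ?_,
    fun hp => ?_⟩
  · let S : Subgroup (Isom sB) := MulAction.stabilizer (Isom sB) v
    let f : Isom sB →* PSpm :=
      (QuotientGroup.mk' (Subgroup.center Spm)).comp (spEquiv m F).symm.toMonoidHom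
    have hf : Function.Surjective f :=
      (QuotientGroup.mk'_surjective _).comp (spEquiv m F).symm.surjective
    have hidx : ¬ p ∣ S.index := by
      have horb : MulAction.orbit (Isom sB) v = {x | x ≠ 0} := by
        ext x
        constructor
        · rintro ⟨g, rfl⟩; exact isom_smul_ne_zero g hv
        · exact fun hx => exists_smul_eq_of_ne_zero (isSympForm_stdForm m F) hv hx
      rw [MulAction.index_stabilizer, horb]
      have hcard : ({x : Vm | x ≠ 0}).ncard + 1 = Nat.card F ^ (2 * m) := by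
        rw [show {x : Vm | x ≠ 0} = ({0} : Set Vm)ᶜ from rfl, Set.ncard_compl, Set.ncard_singleton,
          Nat.card_fun, Nat.card_eq_fintype_card (α := ℓ), Fintype.card_sum, Fintype.card_fin]
        have h1 : 0 < Nat.card F ^ (m + m) := Nat.pos_of_ne_zero (pow_ne_zero _ Nat.card_pos.ne')
        rw [Nat.sub_add_cancel h1, two_mul]
      intro hdvd
      have hpd : p ∣ Nat.card F ^ (2 * m) := dvd_pow (by
        letI := Fintype.ofFinite F
        obtain ⟨n, -, hn⟩ := FiniteField.card F p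
        rw [Nat.card_eq_fintype_card, hn]; exact dvd_pow_self p n.ne_zero) (by omega)
      rw [← hcard, Nat.dvd_add_right hdvd, Nat.dvd_one] at hpd
      exact (Fact.out : p.Prime).ne_one hpd
    set T := S.map f
    obtain ⟨P⟩ : Nonempty (Sylow p T) := inferInstance
    have hT : ¬ p ∣ T.index := fun h => hidx (h.trans (S.index_map_dvd hf))
    have hcard : Nat.card ((P : Subgroup T).map T.subtype) = p ^ (Nat.card PSpm).factorization p := by
      rw [Subgroup.card_map_of_injective (Subgroup.subtype_injective T), P.card_eq_multiplicity,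
        ← T.card_mul_index, Nat.factorization_mul Nat.card_pos.ne' Subgroup.index_ne_zero_of_finite,
        Finsupp.add_apply, Nat.factorization_eq_zero_of_not_dvd hT, add_zero]
    refine ⟨Sylow.ofCard _ hcard, fun y hy => ?_⟩
    obtain ⟨⟨_, g, hg, rfl⟩, -, rfl⟩ := Subgroup.mem_map.1 (hy : y ∈ (P : Subgroup T).map T.subtype)
    have hgv : (((spEquiv m F).symm g : Spm) : Mm) *ᵥ v = v := by
      rw [spEquiv_symm_mulVec]; exact hg
    have h1 := conj_tr ((spEquiv m F).symm g) v c
    rw [hgv] at h1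
    exact (mul_inv_eq_iff_eq_mul.1 h1).symm
  · subst hp
    exact good_tr hm hv hc

/-- A root-like element is conjugate to an element of the centre of the standard unipotent group. -/
theorem exists_conj_shape [Finite F] (p : ℕ) [Fact p.Prime] [CharP F p] (hm : 2 ≤ m)
    {x : PSpm} (hx : RootLike p x) :
    ∃ (g : PSpm) (X : Spm) (a b : F), (p ≠ 2 → b = 0) ∧ g⁻¹ * x * g = QuotientGroup.mk X ∧
      (X : Mm) = Matrix.fromBlocks 1 (a • Matrix.single ⟨0, by omega⟩ ⟨0, by omega⟩ 1 +
        b • (Matrix.single ⟨0, by omega⟩ ⟨1, hm⟩ 1 + Matrix.single ⟨1, hm⟩ ⟨0, by omega⟩ 1)) 0 1 ∧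
      g⁻¹ * x * g ≠ 1 ∧ (p = 2 → Good (g⁻¹ * x * g)) := by
  classical
  haveI : Nonempty ℓ := ⟨Sum.inl ⟨0, by omega⟩⟩
  obtain ⟨P₀, hP₀⟩ := ((isPGroup_uniR (F := F) p (rk m)).map
    (QuotientGroup.mk' (Subgroup.center Spm))).exists_le_sylow
  obtain ⟨hx1, ⟨k, hk⟩, ⟨P, hP⟩, hgood⟩ := hx
  obtain ⟨g, rfl⟩ := MulAction.exists_smul_eq PSpm P₀ P
  set y := g⁻¹ * x * g with hy
  have hyP : ∀ u ∈ (uniR (F := F) (rk m)), Commute y (QuotientGroup.mk u) := by
    intro u hu
    have h1 : g * QuotientGroup.mk u * g⁻¹ ∈ g • P₀ := ⟨_, hP₀ ⟨u, hu, rfl⟩, rfl⟩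
    have h2 := (hP _ h1).map (MulAut.conj g⁻¹)
    simpa [MulAut.conj_apply, hy, mul_assoc] using h2
  have hyk : y ^ p ^ k = 1 := by
    rw [hy, show g⁻¹ * x * g = MulAut.conj g⁻¹ x by simp [MulAut.conj_apply], ← map_pow, hk, map_one]
  have hy1 : y ≠ 1 := fun h => hx1 (by
    have := congrArg (fun z => g * z * g⁻¹) h
    simpa [hy, mul_assoc] using this)
  have hygood : p = 2 → Good y := fun hp => by
    have := good_map (MulAut.conj g⁻¹) (hgood hp)
    simpa [MulAut.conj_apply, hy] using this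
  -- a lift of `p`-power order
  obtain ⟨X, hX, hXy⟩ : ∃ X : Spm, X ^ p ^ k = 1 ∧ QuotientGroup.mk X = y := by
    obtain ⟨X, hXy⟩ := QuotientGroup.mk_surjective y
    rw [← hXy] at hyk ⊢
    rw [← QuotientGroup.mk_pow, QuotientGroup.eq_one_iff, mem_center_sp_iff] at hyk
    rcases hyk with h | h
    · exact ⟨X, Subtype.ext h, rfl⟩
    · rcases (Fact.out : p.Prime).eq_two_or_odd' with hp | hp
      · subst hp
        exact ⟨X, Subtype.ext (h.trans (CharTwo.neg_eq _)), rfl⟩
      · have hneg : -(X : Mm) ∈ Spm := SymplecticGroup.neg_mem X.2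
        refine ⟨⟨_, hneg⟩, Subtype.ext ?_, (mk_eq_mk_iff _ _).2 (Or.inr (by simp))⟩
        rw [SubmonoidClass.coe_pow, (hp.pow).neg_pow, ← SubmonoidClass.coe_pow, h, neg_neg]
        rfl
  have hcomm : ∀ u ∈ uniR (F := F) (rk m), Commute X u := by
    intro u hu
    have h := (hyP u hu).eq
    rw [← hXy, ← QuotientGroup.mk_mul, ← QuotientGroup.mk_mul, mk_eq_mk_iff] at h
    simp only [Submonoid.coe_mul] at h
    rcases h with h | h
    · exact Subtype.ext h.symm
    -- the negative sign forces characteristic two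
    obtain ⟨j, hj⟩ := exists_pow_eq_one (F := F) p (mem_uniR hu).isNilpotent
    have hu1 : (X : Mm) * (u : Mm) * ((X⁻¹ : Spm) : Mm) = -(u : Mm) := by
      have h' : (X : Mm) * (u : Mm) = -((u : Mm) * (X : Mm)) := by rw [h, neg_neg]
      rw [h', Matrix.neg_mul, Matrix.mul_assoc, ← Submonoid.coe_mul, mul_inv_cancel, Submonoid.coe_one,
        Matrix.mul_one]
    rcases (Fact.out : p.Prime).eq_two_or_odd' with hp | hp
    · subst hp
      exact Subtype.ext (h.trans (CharTwo.neg_eq _)).symm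
    · exfalso
      have h1 : (X * u * X⁻¹) ^ p ^ j = 1 := by
        rw [conj_pow, show u ^ p ^ j = 1 from Subtype.ext (by rw [SubmonoidClass.coe_pow]; exact hj),
          mul_one, mul_inv_cancel]
      have h2 := congrArg (fun z : Spm => (z : Mm)) h1
      simp only [SubmonoidClass.coe_pow, Submonoid.coe_mul, Submonoid.coe_one, hu1] at h2
      rw [hp.pow.neg_pow, hj] at h2
      have h3 := congrFun (congrFun h2 (Sum.inl ⟨0, by omega⟩)) (Sum.inl ⟨0, by omega⟩)
      simp at h3
      have h4' : ((2 : ℕ) : F) = 0 := by push_cast; linear_combination -h3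
      have := (Nat.prime_dvd_prime_iff_eq (Fact.out : p.Prime) Nat.prime_two).1
        ((CharP.cast_eq_zero_iff F p 2).1 h4')
      rw [this] at hp
      exact absurd hp (by decide)
  obtain ⟨a, b, hb, hshape⟩ := shape_of_commute hm hX hcomm
  exact ⟨g, X, a, b, hb, hXy.symm, hshape, hy1, hygood⟩

/-- **Transvections are the root-like elements.** -/
theorem exists_tr_of_rootLike [Finite F] (p : ℕ) [Fact p.Prime] [CharP F p] (hm : 2 ≤ m)
    (h4 : m = 2 → p ≠ 2) {x : PSpm} (hx : RootLike p x) : ∃ (v : Vm) (c : F), v ≠ 0 ∧ c ≠ 0 ∧ x = tr v c := by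
  classical
  haveI : Nonempty ℓ := ⟨Sum.inl ⟨0, by omega⟩⟩
  obtain ⟨g, X, a, b, hb, hXy, hshape, hy1, hygood⟩ := exists_conj_shape p hm hx
  suffices h : ∃ (v : Vm) (c : F), v ≠ 0 ∧ c ≠ 0 ∧ g⁻¹ * x * g = tr v c by
    obtain ⟨v, c, hv, hc, hvc⟩ := h
    obtain ⟨s, rfl⟩ := QuotientGroup.mk_surjective g
    refine ⟨(s : Mm) *ᵥ v, c, fun h => hv ?_, hc, ?_⟩
    · have := congrArg (fun y => ((s⁻¹ : Spm) : Mm) *ᵥ y) h
      simpa [Matrix.mulVec_mulVec, ← Submonoid.coe_mul] using this
    · rw [← conj_tr, ← hvc]; group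
  have hb0 : b = 0 := by
    by_contra hb0
    have hp : p = 2 := by by_contra hp; exact hb0 (hb hp)
    subst hp
    refine not_good_bad (m := m) (by rcases Nat.eq_or_lt_of_le hm with h | h
                                     · exact absurd rfl (h4 h.symm)
                                     · omega) hb0 hshape ?_
    rw [← hXy]
    exact hygood rfl
  rw [hb0, zero_smul, add_zero, fromBlocks_single_eq_tvS] at hshape
  have hyt : g⁻¹ * x * g = tr (Pi.single (Sum.inl ⟨0, by omega⟩) 1) a := by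
    rw [hXy, tr, show X = tvS _ a from Subtype.ext hshape]
  refine ⟨_, a, by simp, fun ha => hy1 ?_, hyt⟩
  rw [hyt, ha, tr_zero]

end Cfsg.Agent.Lib.AutPSp
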